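import Groth.Agent.S0927
import Groth.Agent.H23.PicMul
import Groth.Agent.PicClLib.Basic
import Groth.Agent.PnCoh.PushNat
import Groth.Agent.CurveCohLib.Proper
import Groth.Agent.Lib.CurveDeg
import Groth.Agent.Lib.InvEnd
import Groth.Agent.CurveBC.Coh
import Groth.Agent.ProjUPX.Affine
import Groth.Prelude.Def_Curv2

/-! Twists and Euler characteristics along a closed immersion. -/

noncomputable section

set_option linter.style.haveILetI false
set_option linter.unusedSectionVars false
set_option backward.isDefEq.respectTransparency false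
set_option backward.isDefEq.respectTransparency.types false

universe u

open CategoryTheory CategoryTheory.Limits AlgebraicGeometry

namespace Groth.Agent.VarInt

open Groth.Agent

variable {X Z : Scheme.{u}}

theorem nonempty_pullback_tensorPow (i : Z ⟶ X) (L : X.Modules) : ∀ n : ℕ,
    Nonempty ((Scheme.Modules.pullback i).obj (CohB1.tensorPow L n) ≅
      CohB1.tensorPow ((Scheme.Modules.pullback i).obj L) n)
  | 0 => ⟨CurveBC.unitIso i⟩
  | n + 1 => by
    obtain ⟨e⟩ := nonempty_pullback_tensorPow i L n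
    obtain ⟨p⟩ := H23.PicMul.pull i (CohB1.tensorPow L n) L
    exact ⟨p ≪≫ PicGrp.tensorModIso e (Iso.refl _)⟩

/-- The projection formula for an invertible module. -/
theorem nonempty_push_tensor (i : Z ⟶ X) (N : Z.Modules) {L : X.Modules}
    (hL : PicF.IsInvertible L) :
    Nonempty (CohB1.tensorMod ((Coh.push i).obj N) L ≅
      (Coh.push i).obj (CohB1.tensorMod N ((Scheme.Modules.pullback i).obj L))) := by
  haveI : EnoughInjectives Z.Modules := inferInstance
  obtain ⟨φ⟩ := S0927.result i N L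
    (fun y => let ⟨W, hy, he⟩ := InvEnd.isFinLocFreeOfRank_one hL y; ⟨W, 1, hy, he⟩) 0
  let ψ := (Scheme.Modules.pushforward i).rightDerivedZeroIsoSelf
  obtain ⟨c⟩ := H23.PicMul.comm ((Coh.push i).obj N) L
  obtain ⟨c'⟩ := H23.PicMul.comm ((Scheme.Modules.pullback i).obj L) N
  exact ⟨c ≪≫ PicGrp.tensorModIso (Iso.refl _) (ψ.app N).symm ≪≫ φ ≪≫ ψ.app _ ≪≫
    (Coh.push i).mapIso c'⟩

theorem nonempty_push_tensorPows (i : Z ⟶ X) (N : Z.Modules) : ∀ {r : ℕ} (L : Fin r → X.Modules),
    (∀ j, PicF.IsInvertible (L j)) → ∀ n : Fin r → ℕ,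
      Nonempty (Curv2.tensorPows ((Coh.push i).obj N) r L n ≅
        (Coh.push i).obj (Curv2.tensorPows N r (fun j => (Scheme.Modules.pullback i).obj (L j)) n))
  | 0, L, hL, n => ⟨Iso.refl _⟩
  | r + 1, L, hL, n => by
    obtain ⟨e⟩ := nonempty_push_tensorPows i N (fun j => L j.castSucc) (fun j => hL _)
      (fun j => n j.castSucc)
    obtain ⟨p⟩ := nonempty_push_tensor i
      (Curv2.tensorPows N r (fun j => (Scheme.Modules.pullback i).obj (L j.castSucc))
        (fun j => n j.castSucc))
      (H23.PicMul.isInvertible_tensorPow (hL (Fin.last r)) (n (Fin.last r)))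
    obtain ⟨q⟩ := nonempty_pullback_tensorPow i (L (Fin.last r)) (n (Fin.last r))
    exact ⟨PicGrp.tensorModIso e (Iso.refl _) ≪≫ p ≪≫
      (Coh.push i).mapIso (PicGrp.tensorModIso (Iso.refl _) q)⟩

theorem euler_push (k : Type u) [Field k] [X.Over (Spec (CommRingCat.of k))]
    [Z.Over (Spec (CommRingCat.of k))] (i : Z ⟶ X) [IsAffineHom i]
    (hi : i ≫ (X ↘ Spec (CommRingCat.of k)) = Z ↘ Spec (CommRingCat.of k))
    {M : Z.Modules} (hM : Coh.IsQCoh M) :
    Curv2.euler k X ((Coh.push i).obj M) = Curv2.euler k Z M :=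
  finsum_congr fun n => by
    obtain ⟨e⟩ := PnCoh.exists_linearEquiv_push k i hi hM n
    rw [e.finrank_eq]

theorem euler_push_tensorPows (k : Type u) [Field k] [X.Over (Spec (CommRingCat.of k))]
    [Z.Over (Spec (CommRingCat.of k))] (i : Z ⟶ X) [IsAffineHom i]
    (hi : i ≫ (X ↘ Spec (CommRingCat.of k)) = Z ↘ Spec (CommRingCat.of k))
    {N : Z.Modules} (hN : Coh.IsQCoh N) {r : ℕ} {L : Fin r → X.Modules}
    (hL : ∀ j, PicF.IsInvertible (L j)) (n : Fin r → ℕ) :
    Curv2.euler k X (Curv2.tensorPows ((Coh.push i).obj N) r L n) =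
      Curv2.euler k Z (Curv2.tensorPows N r (fun j => (Scheme.Modules.pullback i).obj (L j)) n) := by
  obtain ⟨e⟩ := nonempty_push_tensorPows i N L hL n
  rw [CurveCohLib.euler_congr e, euler_push k i hi]
  clear e
  induction r with
  | zero => exact hN
  | succ r ih =>
    exact KFlatLib.isQCoh_tensor (ih (fun j => hL j.castSucc) (fun j => n j.castSucc))
      (ProjUPX.isQCoh_of_isInvertible
        (H23.PicMul.isInvertible_tensorPow (PicClLib.isInvertible_pullback i (hL _)) _))

end Groth.Agent.VarInt
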