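import Groth.Agent.PnCoh.Chow.DevInput
import Groth.Agent.PnCoh.PushNat
import Groth.Agent.VarInt.Closed
import Groth.Agent.H23.TrivBasic
import Groth.Agent.AmpleVan.Uniform

/-! Euler characteristics of twists along a proper map from a projective scheme. -/

noncomputable section

set_option linter.style.haveILetI false
set_option linter.unusedSectionVars false
set_option backward.isDefEq.respectTransparency false
set_option backward.isDefEq.respectTransparency.types false

universe u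

open CategoryTheory CategoryTheory.Limits AlgebraicGeometry TopologicalSpace Opposite
open Groth.Agent.PnCoh Groth.Agent.PnCoh.Chow

namespace Groth.Agent.VarInt

open Groth.Agent Groth.Agent.H23.PicMul

variable {X X' : Scheme.{u}}

/-- Higher cohomology vanishing on an open only depends on the restriction to it. -/
theorem subsingleton_HU_of_restrict_iso {M M' : X.Modules} (U : X.Opens)
    (e : M.restrict U.ι ≅ M'.restrict U.ι) (q : ℕ)
    (h : Subsingleton (CohTop.HU (X := X.toPresheafedSpace.carrier) (QCoh.abSheaf M) (q + 1) U)) :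
    Subsingleton (CohTop.HU (X := X.toPresheafedSpace.carrier) (QCoh.abSheaf M') (q + 1) U) := by
  have e' : (U.ι.isOpenEmbedding.isOpenMap.functor.obj ⊤ : X.Opens) = U :=
    Opens.ext (Set.image_univ.trans U.range_ι)
  have h1 := (QCoh.Ab.subsingleton_HU_restr_iff (U.ι.isOpenEmbedding) q (QCoh.abSheaf M) ⊤).2
    (by rw [e']; exact h)
  haveI : Subsingleton (Coh.HHon X M U (q + 1)) :=
    @Equiv.subsingleton _ _ (SiteBase.huTerminalEquiv isTerminalTop _ (q + 1)).symm.toEquiv h1
  exact subsingleton_HU_of_HHon M' U q (subsingleton_HH_of_iso e (q + 1) inferInstance)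

/-- Over an open trivialising `N` the pull-back of `N` does not change a module. -/
theorem nonempty_restrict_tensor_pullback (g : X' ⟶ X) {W : X.Opens} {N : X.Modules} (M : X'.Modules)
    {e : Γ(N, W)} (he : InvX.IsFrame e) :
    Nonempty (M.restrict (g ⁻¹ᵁ W).ι ≅
      (CohB1.tensorMod M ((Scheme.Modules.pullback g).obj N)).restrict (g ⁻¹ᵁ W).ι) := by
  have hfr : ∀ {V : W.toScheme.Opens} (f : Γ((Scheme.Modules.pullback W.ι).obj N, V)),
      InvX.IsFrame f → V = ⊤ → PicF.cl ((Scheme.Modules.pullback W.ι).obj N) = 1 := by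
    intro V f hf hV
    subst hV
    exact cl_eq_iff.2 (H23.TrivBasic.triv_of_frame hf)
  have hW : PicF.cl ((Scheme.Modules.pullback W.ι).obj N) = 1 :=
    hfr _ (InvX.isFrame_pullElt W.ι he) W.ι_preimage_self
  have hW' : pullHom W.ι (PicF.cl N) = 1 := hW
  have key : PicF.cl ((Scheme.Modules.pullback (g ⁻¹ᵁ W).ι).obj M) =
      PicF.cl ((Scheme.Modules.pullback (g ⁻¹ᵁ W).ι).obj (CohB1.tensorMod M ((Scheme.Modules.pullback g).obj N))) := by
    show pullHom (g ⁻¹ᵁ W).ι (PicF.cl M) =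
      pullHom (g ⁻¹ᵁ W).ι (PicF.cl (CohB1.tensorMod M ((Scheme.Modules.pullback g).obj N)))
    rw [cl_tensor, map_mul]
    have h2 : pullHom (g ⁻¹ᵁ W).ι (PicF.cl ((Scheme.Modules.pullback g).obj N)) = 1 := by
      show PicF.pullCl (g ⁻¹ᵁ W).ι (PicF.pullCl g (PicF.cl N)) = 1
      rw [PicClLib.pullCl_comp, ← morphismRestrict_ι, ← PicClLib.pullCl_comp]
      show pullHom (g ∣_ W) (pullHom W.ι (PicF.cl N)) = 1
      rw [hW', map_one]
    rw [h2, mul_one]
  obtain ⟨φ⟩ := cl_eq_iff.1 key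
  exact ⟨(Scheme.Modules.restrictFunctorIsoPullback _).app M ≪≫ φ ≪≫
    ((Scheme.Modules.restrictFunctorIsoPullback _).app _).symm⟩

variable {k : Type u} [Field k] [X.Over (Spec (CommRingCat.of k))] [X'.Over (Spec (CommRingCat.of k))]
  [IsProper (X ↘ Spec (CommRingCat.of k))]

/-- For high degree, twists push forward without change of Euler characteristic. -/
theorem exists_good_twist {N₀ : ℕ} (g : X' ⟶ X) [IsProper g]
    (hg : g ≫ (X ↘ Spec (CommRingCat.of k)) = X' ↘ Spec (CommRingCat.of k))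
    (p : X' ⟶ Proj (CohB1.polyGrading N₀ k)) [IsClosedImmersion p]
    (hp : p ≫ CohB1.ProjSpace.toSpec N₀ k = g ≫ (X ↘ Spec (CommRingCat.of k))) :
    ∃ d₀ : ℕ, ∀ d : ℕ, d₀ ≤ d → Coh.IsCoh ((Coh.push g).obj (pullTw p (d : ℤ))) ∧
      ∀ N : X.Modules, PicF.IsInvertible N →
        Curv2.euler k X (CohB1.tensorMod ((Coh.push g).obj (pullTw p (d : ℤ))) N) =
          Curv2.euler k X' (CohB1.tensorMod (pullTw p (d : ℤ)) ((Scheme.Modules.pullback g).obj N)) := by
  classical
  haveI := CurveCohLib.isNoetherian_of_proper (k := k) (X := X)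
  haveI : X.IsSeparated := AmpleVan.isSeparated_of_proper (A := k)
  let f := X ↘ Spec (CommRingCat.of k)
  obtain ⟨s, hs, hcov⟩ := isCompact_iff_finite_and_eq_biUnion_affineOpens.mp
    (show IsCompact ((⊤ : X.Opens) : Set X) by simpa using isCompact_univ)
  haveI := hs.to_subtype
  have hcov' : ∀ x : X, ∃ i : s, x ∈ i.1.1 := fun x => by
    have hx : x ∈ (⊤ : X.Opens) := trivial
    rw [hcov] at hx
    obtain ⟨V, hV, hxV⟩ := by simpa only [Opens.mem_iSup, exists_prop] using hx
    exact ⟨⟨V, hV⟩, hxV⟩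
  haveI : ∀ i : s, IsNoetherianRing Γ(X, i.1.1) := fun i => IsLocallyNoetherian.component_noetherian i.1
  choose d₀ hd₀ using fun i : s => exists_rel_vanishing f g p (V := i.1.1) i.1.2 hp
  haveI := Fintype.ofFinite s
  refine ⟨Finset.univ.sup d₀, fun d hd => ⟨⟨QCoh.isQCoh_pushforward g (isQCoh_pullTw p _),
    QCoh.isFT_of_finite (QCoh.isQCoh_pushforward g (isQCoh_pullTw p _)) (fun i : s => i.1.1)
      (IsOpenCover.mk (top_le_iff.1 fun x _ => Opens.mem_iSup.2 (hcov' x))) (fun i => i.1.2)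
      (fun i => finite_sections_push f g p i.1.2 hp d)⟩, fun N hN => ?_⟩⟩
  obtain ⟨φ⟩ := nonempty_push_tensor g (pullTw p (d : ℤ)) hN
  rw [CurveCohLib.euler_congr φ]
  let M := CohB1.tensorMod (pullTw p (d : ℤ)) ((Scheme.Modules.pullback g).obj N)
  let B : Opens X → Prop := fun W => ∃ (i : s) (b : Γ(X, i.1.1)),
    W = X.basicOpen b ∧ ∃ e : Γ(N, X.basicOpen b), InvX.IsFrame e
  have hB : ∀ (U : Opens X) (y : X), y ∈ U → ∃ W, W ≤ U ∧ y ∈ W ∧ B W := fun U y hy => by
    obtain ⟨i, hi⟩ := hcov' y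
    obtain ⟨U₀, hyU₀, e, he⟩ := InvX.exists_frame hN y
    obtain ⟨b, hbU, hyb⟩ := i.1.2.exists_basicOpen_le (V := U ⊓ U₀) ⟨y, hy, hyU₀⟩ hi
    exact ⟨X.basicOpen b, hbU.trans inf_le_left, hyb, i, b, rfl, _, he.res (hbU.trans inf_le_right)⟩
  refine (finsum_congr fun q => ?_).symm
  have hnat := H_push_equiv_natural_of_HU (Y := X.toPresheafedSpace.carrier) g.base B hB
    (QCoh.abSheaf M) (fun W hW r => by
      obtain ⟨i, b, rfl, e, he⟩ := hW
      obtain ⟨θ⟩ := nonempty_restrict_tensor_pullback g (pullTw p (d : ℤ)) he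
      exact subsingleton_HU_of_restrict_iso _ θ r
        (subsingleton_HU_preimage_basicOpen f g p i.1.2 hp d b r
          (hd₀ i d ((Finset.le_sup (Finset.mem_univ i)).trans hd) r))) q
  obtain ⟨eHH⟩ := nonempty_linearEquiv_of_natPushEquiv k g hg M q hnat
  rw [eHH.finrank_eq]

end Groth.Agent.VarInt
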