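import Groth.Agent.Snapper.Multi
import Groth.Agent.CycLib.StalkSES
import Groth.Agent.H23.ClosedPushLen
import Groth.Agent.QCoh.DevissageP

/-! The part of top dimension of the Euler characteristics of twists. -/

noncomputable section

set_option linter.style.haveILetI false
set_option linter.unusedSectionVars false
set_option backward.isDefEq.respectTransparency false
set_option backward.isDefEq.respectTransparency.types false

universe u

open CategoryTheory CategoryTheory.Limits AlgebraicGeometry TopologicalSpace Opposite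

namespace Groth.Agent.VarInt

open Groth.Agent

/-- The reduced closed subscheme on the closure of a point. -/
abbrev ptClosure {X : Scheme.{u}} (ξ : X) : X.IdealSheafData :=
  Scheme.IdealSheafData.vanishingIdeal
    (⟨closure ({ξ} : Set X), isClosed_closure⟩ : TopologicalSpace.Closeds X)

variable {X : Scheme.{u}}

instance isIntegral_ptClosure (ξ : X) : IsIntegral (ptClosure ξ).subscheme :=
  QCoh.isIntegral_closure_point ξ

theorem range_ptClosure (ξ : X) : Set.range (ptClosure ξ).subschemeι = closure {ξ} :=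
  H23.RedSub.range_vanishingIdeal _

theorem support_quot_ptClosure_subset (ξ : X) :
    CohB1.support (ClSub.quotMod (ptClosure ξ)) ⊆ closure {ξ} :=
  (range_ptClosure ξ) ▸ QCoh.support_push_subset _ QCoh.isQCoh_structureModule

theorem genericPoint_ptClosure (ξ : X) :
    (ptClosure ξ).subschemeι (genericPoint (ptClosure ξ).subscheme) = ξ := by
  have h := (QCoh.range_eq_closure (ptClosure ξ).subschemeι).symm.trans (range_ptClosure ξ)
  exact (inseparable_iff_closure_eq.2 h).eq

theorem length_stalk_self_genericPoint (Z : Scheme.{u}) [IsIntegral Z] :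
    Module.length (Z.presheaf.stalk (genericPoint Z)) (Z.presheaf.stalk (genericPoint Z)) = 1 := by
  rw [Module.length_eq_one_iff]
  exact (isSimpleModule_iff _ _).2 inferInstance

theorem length_quot_ptClosure_self (ξ : X) :
    Module.length (X.presheaf.stalk ξ) ((ClSub.quotMod (ptClosure ξ)).presheaf.stalk ξ) = 1 := by
  have h := (H23.ClosedPushLen.length_stalk (ptClosure ξ).subschemeι
      (Coh.structureModule _) (genericPoint _)).trans
    ((H23.ClosedPushLen.length_structureModule _).trans (length_stalk_self_genericPoint _))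
  rwa [genericPoint_ptClosure] at h

theorem dim_lt_of_specializes {ξ η : X} {d : ℕ}
    (hd : topologicalKrullDim ↥(closure ({ξ} : Set X)) ≤ d) (h : η ∈ closure ({ξ} : Set X))
    (hne : η ≠ ξ) : topologicalKrullDim ↥(closure ({η} : Set X)) < d := by
  haveI : IrreducibleSpace ↥(closure ({ξ} : Set X)) :=
    isIrreducible_iff_irreducibleSpace.1 isIrreducible_singleton.closure
  let Y : Set ↥(closure ({ξ} : Set X)) := {y | (y : X) ∈ closure ({η} : Set X)}
  have hlt := H23.TopDim.dim_lt_of_ssubset (X := ↥(closure ({ξ} : Set X)))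
    (fun h => by
      rw [h] at hd
      exact not_top_lt (lt_of_le_of_lt hd (WithBot.coe_lt_coe.2 (ENat.natCast_lt_top d))))
    (Y := Y) (isClosed_closure.preimage continuous_subtype_val) (fun hY => hne ?_)
  · refine lt_of_le_of_lt ?_ (lt_of_lt_of_le hlt hd)
    have hsub : closure ({η} : Set X) ⊆ closure {ξ} :=
      closure_minimal (Set.singleton_subset_iff.2 h) isClosed_closure
    let g : ↥(closure ({η} : Set X)) → ↥Y := fun p => ⟨⟨p.1, hsub p.2⟩, p.2⟩
    have hcomp : Topology.IsInducing ((Subtype.val ∘ Subtype.val : ↥Y → X) ∘ g) :=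
      show Topology.IsInducing (Subtype.val : ↥(closure ({η} : Set X)) → X) from
        Topology.IsInducing.subtypeVal
    exact ((Topology.IsInducing.subtypeVal.comp Topology.IsInducing.subtypeVal).of_comp_iff.1
      hcomp).topologicalKrullDim_le
  · exact ((specializes_iff_mem_closure.2 h).antisymm
      (specializes_iff_mem_closure.2
        (hY.ge (Set.mem_univ ⟨ξ, subset_closure rfl⟩) : ξ ∈ closure ({η} : Set X)))).eq.symm

theorem eq_of_mem_closure {ξ η : X} {d : ℕ}
    (hd : topologicalKrullDim ↥(closure ({ξ} : Set X)) ≤ d) (h : η ∈ closure ({ξ} : Set X))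
    (hη : topologicalKrullDim ↥(closure ({η} : Set X)) = d) : η = ξ :=
  by_contra fun hne => (dim_lt_of_specializes hd h hne).ne hη

/-- The points of `C` whose closure has dimension `d`. -/
def topPts (C : Set X) (d : ℕ) : Set X :=
  {ξ | ξ ∈ C ∧ topologicalKrullDim ↥(closure ({ξ} : Set X)) = d}

theorem topPts_maximal {C : Set X} (hC : IsClosed C) {d : ℕ} (hd : topologicalKrullDim ↥C ≤ d)
    {ξ η : X} (hξ : ξ ∈ topPts C d) (hη : η ∈ C) (h : η ⤳ ξ) : η = ξ := by
  refine (eq_of_mem_closure (ξ := η) (η := ξ) (d := d) ?_ (specializes_iff_mem_closure.1 h) hξ.2).symm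
  exact (H23.TopDim.dim_le_dim_of_subset
    (closure_minimal (Set.singleton_subset_iff.2 hη) hC)).trans hd

theorem finite_topPts [IsNoetherian X] {C : Set X} (hC : IsClosed C) {d : ℕ}
    (hd : topologicalKrullDim ↥C ≤ d) : (topPts C d).Finite := by
  obtain ⟨S, hSf, hSc, hSi, hS⟩ := NoetherianSpace.exists_finite_set_isClosed_irreducible hC
  refine Set.Finite.of_finite_image (f := fun ξ => closure ({ξ} : Set X)) (hSf.subset ?_) ?_
  · rintro _ ⟨ξ, hξ, rfl⟩
    obtain ⟨t, ht, hξt⟩ := Set.mem_sUnion.1 (hS ▸ hξ.1)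
    obtain ⟨η, hη⟩ := QuasiSober.sober (hSi t ht) (hSc t ht)
    have he : η = ξ := topPts_maximal hC hd hξ (hS ▸ Set.mem_sUnion.2 ⟨t, ht, hη.mem⟩)
      (hη.specializes hξt)
    subst he
    have e : closure ({η} : Set X) = t := hη
    show closure ({η} : Set X) ∈ S
    rw [e]
    exact ht
  · exact fun a _ b _ h => (inseparable_iff_closure_eq.2 h).eq

variable {A : Type*} [AddCommGroup A]

/-- An additive invariant of coherent modules, small on small supports, is determined up to small
error by the lengths at the points of top dimension. -/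
theorem sub_topPts_mem [IsNoetherian X] (f : X.Modules → A) (K : AddSubgroup A) {d : ℕ} {C : Set X}
    (hiso : ∀ M N : X.Modules, (M ≅ N) → f M = f N)
    (hadd : ∀ S : ShortComplex X.Modules, S.ShortExact → Coh.IsCoh S.X₁ → Coh.IsCoh S.X₂ →
      Coh.IsCoh S.X₃ → CohB1.support S.X₂ ⊆ C → f S.X₂ = f S.X₁ + f S.X₃)
    (hsmall : ∀ (D : Closeds X), topologicalKrullDim ↥(D : Set X) < (d : WithBot ℕ∞) →
      (D : Set X) ⊆ C → ∀ M : X.Modules, Coh.IsCoh M → CohB1.support M ⊆ D → f M ∈ K)
    (hC : IsClosed C) (hd : topologicalKrullDim ↥C ≤ d) (G : Finset X)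
    (hG : ∀ ξ, ξ ∈ G ↔ ξ ∈ topPts C d) {M : X.Modules} (hM : Coh.IsCoh M)
    (hMC : CohB1.support M ⊆ C) :
    f M - ∑ ξ ∈ G, (Module.length (X.presheaf.stalk ξ) (M.presheaf.stalk ξ)).toNat •
      f (ClSub.quotMod (ptClosure ξ)) ∈ K := by
  let w : X → X.Modules → A := fun ξ N => (Module.length (X.presheaf.stalk ξ) (N.presheaf.stalk ξ)).toNat •
    f (ClSub.quotMod (ptClosure ξ))
  let P : X.Modules → Prop := fun N => CohB1.support N ⊆ C → f N - ∑ ξ ∈ G, w ξ N ∈ K
  have hzero : ∀ (N : X.Modules) (ξ : X), ξ ∉ CohB1.support N → w ξ N = 0 := fun N ξ h => by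
    haveI : Subsingleton (N.presheaf.stalk ξ) := not_not.1 h
    simp [w, Module.length_eq_zero]
  have hfin : ∀ N : X.Modules, Coh.IsCoh N → CohB1.support N ⊆ C → ∀ ξ ∈ G,
      Module.length (X.presheaf.stalk ξ) (N.presheaf.stalk ξ) < ⊤ := fun N hN hNC ξ hξ =>
    CycLib.length_stalk_lt_top N hN fun y hy hyξ =>
      topPts_maximal hC hd ((hG ξ).1 hξ) (hNC (not_subsingleton_iff_nontrivial.2 hy)) hyξ
  have hw : ∀ (N N' : X.Modules), (N ≅ N') → ∑ ξ ∈ G, w ξ N = ∑ ξ ∈ G, w ξ N' := fun N N' e =>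
    Finset.sum_congr rfl fun ξ _ => congrArg
      (fun l : ℕ∞ => l.toNat • f (ClSub.quotMod (ptClosure ξ)))
      (((DerSch.stalkFunctor X ξ).mapIso e).toLinearEquiv).length_eq
  have hsum : ∀ S : ShortComplex X.Modules, S.ShortExact → Coh.IsCoh S.X₁ → Coh.IsCoh S.X₂ →
      Coh.IsCoh S.X₃ → CohB1.support S.X₂ ⊆ C → f S.X₂ - ∑ ξ ∈ G, w ξ S.X₂ =
        (f S.X₁ - ∑ ξ ∈ G, w ξ S.X₁) + (f S.X₃ - ∑ ξ ∈ G, w ξ S.X₃) := fun S hS a b c hs => by
    have he : ∀ ξ ∈ G, w ξ S.X₂ = w ξ S.X₁ + w ξ S.X₃ := fun ξ hξ => by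
      have e := CycLib.length_stalk_shortExact hS a.1 b.1 c.1 ξ
      have hlt := hfin _ b hs ξ hξ
      rw [e] at hlt
      have hlt' := WithTop.add_ne_top.1 hlt.ne
      simp only [w]
      rw [e, ENat.toNat_add hlt'.1 hlt'.2, add_smul]
    rw [hadd S hS a b c hs, Finset.sum_congr rfl he, Finset.sum_add_distrib]
    abel
  have hsupp : ∀ S : ShortComplex X.Modules, S.ShortExact → Coh.IsCoh S.X₁ → Coh.IsCoh S.X₂ →
      Coh.IsCoh S.X₃ → CohB1.support S.X₁ ⊆ CohB1.support S.X₂ ∧
        CohB1.support S.X₃ ⊆ CohB1.support S.X₂ := fun S hS a b c => by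
    haveI := hS.mono_f
    haveI := hS.epi_g
    exact ⟨QCoh.mem_support_of_mono a.1 b.1 S.f, QCoh.support_of_epi b.1 c.1 S.g⟩
  refine QCoh.devissage P (fun N N' ⟨e⟩ hN hN' => ?_) (fun N hN hNC => ?_) C
    (fun S hS a b c hs h1 h3 _ => ?_) (fun ξ hξC _ Z i _ _ hr _ => ?_)
    (fun S hS a b c hs h2 h3 _ => ?_) hM hMC hMC
  · rw [← hiso N N' e, ← hw N N' e]
    exact hN fun x hx => hN' fun hs => hx
      ((((DerSch.stalkFunctor X x).mapIso e).toLinearEquiv).toEquiv.subsingleton_congr.2 hs)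
  · have hs : ∀ ξ, ξ ∉ CohB1.support N := fun ξ h => h
      (AddCommGrpCat.isZero_iff_subsingleton.1
        ((Scheme.Modules.toPresheaf X ⋙ TopCat.Presheaf.stalkFunctor AddCommGrpCat.{u} ξ).map_isZero hN))
    have hNc : Coh.IsCoh N := QCoh.isCoh_isZero hN QCoh.isCoh_structureModule'
    have hS : (ShortComplex.mk (0 : N ⟶ N) (0 : N ⟶ N) comp_zero).ShortExact :=
      .mk' (ShortComplex.exact_of_isZero_X₂ _ hN) ⟨fun _ _ _ => hN.eq_of_tgt _ _⟩ ⟨fun _ _ _ => hN.eq_of_src _ _⟩
    have h0 : f N = f N + f N := hadd _ hS hNc hNc hNc hNC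
    rw [Finset.sum_eq_zero fun ξ _ => hzero N ξ (hs ξ), sub_zero]
    rw [left_eq_add.1 h0]
    exact K.zero_mem
  · obtain ⟨s1, s3⟩ := hsupp S hS a b c
    rw [hsum S hS a b c hs]
    exact K.add_mem (h1 (s1.trans hs)) (h3 (s3.trans hs))
  · obtain ⟨e⟩ := QCoh.push_structure_iso (ptClosure ξ).subschemeι i (by rw [hr, range_ptClosure])
    rw [hiso _ _ e, hw _ _ e]
    have hdim : topologicalKrullDim ↥(closure ({ξ} : Set X)) ≤ d :=
      (H23.TopDim.dim_le_dim_of_subset hξC).trans hd
    have hot : ∀ η ∈ G, η ≠ ξ → w η (ClSub.quotMod (ptClosure ξ)) = 0 := fun η hη hne =>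
      hzero _ η fun h => hne
        (eq_of_mem_closure hdim (support_quot_ptClosure_subset ξ h) ((hG η).1 hη).2)
    show f (ClSub.quotMod (ptClosure ξ)) - ∑ η ∈ G, w η (ClSub.quotMod (ptClosure ξ)) ∈ K
    by_cases hξG : ξ ∈ G
    · rw [Finset.sum_eq_single ξ hot (fun h => absurd hξG h)]
      simp [w, length_quot_ptClosure_self]
    · rw [Finset.sum_eq_zero fun η hη => hot η hη fun he => hξG (he ▸ hη), sub_zero]
      refine hsmall ⟨_, isClosed_closure⟩ ?_ hξC _
        (QCoh.isCoh_push_structure _) (support_quot_ptClosure_subset ξ)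
      exact lt_of_le_of_ne hdim fun he => hξG ((hG ξ).2 ⟨hξC (subset_closure rfl), he⟩)
  · obtain ⟨s1, s3⟩ := hsupp S hS a b c
    have h := K.sub_mem (h2 hs) (h3 (s3.trans hs))
    rw [hsum S hS a b c hs, add_sub_cancel_right] at h
    exact h

variable (k : Type u) [Field k] [X.Over (Spec (CommRingCat.of k))]
  [IsProper (X ↘ Spec (CommRingCat.of k))] {r : ℕ}

/-- The length at `ξ` times the Euler characteristics of the twists of `O` of the closure of `ξ`. -/
def term (L : Fin r → X.Modules) (ξ : X) (M : X.Modules) : (Fin r → ℕ) → ℚ :=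
  ((Module.length (X.presheaf.stalk ξ) (M.presheaf.stalk ξ)).toNat : ℚ) •
    Snapper.χs k L (ClSub.quotMod (ptClosure ξ))

/-- The functions that are polynomial of degree below `d`. -/
def lowDeg (r d : ℕ) : AddSubgroup ((Fin r → ℕ) → ℚ) where
  carrier := {f | Snapper.IsMPolyLt d f}
  add_mem' h h' := h.add h'
  zero_mem' := ⟨0, Snapper.degLt_zero d, fun n => by simp⟩
  neg_mem' {f} h := (Snapper.IsMPolyLt.sub (f := (0 : (Fin r → ℕ) → ℚ))
    ⟨0, Snapper.degLt_zero d, fun n => by simp⟩ h).congr fun n => by simp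

/-- Euler characteristics of twists of a coherent module are, up to lower degree, those of the
components of top dimension weighted by the lengths. -/
theorem isMPolyLt_sub_topPts {L : Fin r → X.Modules} (hL : ∀ i, PicF.IsInvertible (L i)) {d : ℕ}
    {C : Set X} (hC : IsClosed C) (hd : topologicalKrullDim ↥C ≤ d) (G : Finset X)
    (hG : ∀ ξ, ξ ∈ G ↔ ξ ∈ topPts C d) {M : X.Modules} (hM : Coh.IsCoh M)
    (hMC : CohB1.support M ⊆ C) :
    Snapper.IsMPolyLt d (Snapper.χs k L M - ∑ ξ ∈ G, term k L ξ M) := by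
  haveI := CurveCohLib.isNoetherian_of_proper (k := k) (X := X)
  have h := sub_topPts_mem (Snapper.χs k L) (lowDeg r d) (fun M N e => funext fun n => Snapper.χs_congr k e n)
    (fun S hS a b c _ => Snapper.χs_add k hL hS a b c)
    (fun D hD _ N hN hND => Snapper.isMPolyLt_of_dim_lt k hL d D hD N hN hND) hC hd G hG hM hMC
  refine (show Snapper.IsMPolyLt d _ from h).congr fun n => ?_
  simp only [term, Nat.cast_smul_eq_nsmul]

/-- The finite sum version with all points having closure of dimension `d`. -/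
theorem isMPolyLt_sub_finsum {L : Fin r → X.Modules} (hL : ∀ i, PicF.IsInvertible (L i))
    {M : X.Modules} (hM : Coh.IsCoh M) {d : ℕ}
    (hd : topologicalKrullDim ↥(CohB1.support M) ≤ d) :
    ∃ G : Finset X, (∀ ξ, ξ ∈ G ↔ ξ ∈ topPts (CohB1.support M) d) ∧
      Snapper.IsMPolyLt d (Snapper.χs k L M - ∑ ξ ∈ G, term k L ξ M) := by
  haveI := CurveCohLib.isNoetherian_of_proper (k := k) (X := X)
  have hC := QCoh.isClosed_support_of_isFT hM.1 hM.2
  exact ⟨(finite_topPts hC hd).toFinset, fun ξ => Set.Finite.mem_toFinset _,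
    isMPolyLt_sub_topPts k hL hC hd _ (fun ξ => Set.Finite.mem_toFinset _) hM subset_rfl⟩

end Groth.Agent.VarInt
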