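import Groth.Agent.VarInt.DegSum
import Mathlib.AlgebraicGeometry.ZariskisMainTheorem

/-! Degrees of pull-backs along generically finite maps of curves. -/

noncomputable section

set_option linter.style.haveILetI false
set_option linter.unusedSectionVars false
set_option backward.isDefEq.respectTransparency false
set_option backward.isDefEq.respectTransparency.types false

universe u

open CategoryTheory CategoryTheory.Limits AlgebraicGeometry TopologicalSpace

namespace Groth.Agent.VarInt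

open Groth.Agent

variable {X Y : Scheme.{u}}

theorem mem_open_of_dense [IsNoetherian X] {U : X.Opens} (hU : Dense (U : Set X)) {ξ : X}
    (hmax : ∀ η : X, η ⤳ ξ → η = ξ) : ξ ∈ U := by
  obtain ⟨S, hSf, hSc, hSi, hS⟩ :=
    NoetherianSpace.exists_finite_set_isClosed_irreducible (isClosed_univ (X := X))
  let V : Set X := (⋃₀ {t ∈ S | ξ ∉ t})ᶜ
  have hV : IsOpen V := by
    suffices h : IsClosed (⋃₀ {t ∈ S | ξ ∉ t}) from h.isOpen_compl
    rw [Set.sUnion_eq_biUnion]
    exact (hSf.subset fun t ht => ht.1).isClosed_biUnion fun t ht => hSc t ht.1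
  have hξV : ξ ∈ V := fun ⟨t, ht, hξt⟩ => ht.2 hξt
  obtain ⟨y, hyV, hyU⟩ := hU.inter_open_nonempty V hV ⟨ξ, hξV⟩
  obtain ⟨t, ht, hyt⟩ := Set.mem_sUnion.1 (hS ▸ Set.mem_univ y)
  have hξt : ξ ∈ t := by_contra fun h => hyV ⟨t, ⟨ht, h⟩, hyt⟩
  obtain ⟨η, hη⟩ := QuasiSober.sober (hSi t ht) (hSc t ht)
  exact (hmax η (hη.specializes hξt) ▸ hη.specializes hyt).mem_open U.2 hyU

theorem isClosed_singleton_or_top (hdim : topologicalKrullDim X ≤ 1) (x : X) :
    IsClosed ({x} : Set X) ∨ x ∈ topPts (Set.univ : Set X) 1 := by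
  by_cases h : topologicalKrullDim ↥(closure ({x} : Set X)) = ((1 : ℕ) : WithBot ℕ∞)
  · exact Or.inr ⟨trivial, h⟩
  · refine Or.inl (isClosed_singleton_of_dim_lt_one isClosed_closure (lt_of_le_of_ne ?_ h)
      (subset_closure rfl))
    exact (topologicalKrullDim_subspace_le X _).trans (by exact_mod_cast hdim)

theorem finite_of_avoid_top [IsNoetherian X] (hdim : topologicalKrullDim X ≤ 1) {D : Set X}
    (hD : IsClosed D) (h : ∀ x ∈ D, x ∉ topPts (Set.univ : Set X) 1) : D.Finite :=
  CurveCohLib.finite_of_closedPoints hD fun x hx =>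
    (isClosed_singleton_or_top hdim x).resolve_right (h x hx)

section stalk

variable (f : Y ⟶ X) (hc : IsClosedMap f) (ξ : Y) (huniq : ∀ z : Y, f z = f ξ → z = ξ)
include hc huniq

theorem exists_nhd_preimage_le (W : Y.Opens) (hW : ξ ∈ W) :
    ∃ V : X.Opens, f ξ ∈ V ∧ f ⁻¹ᵁ V ≤ W := by
  refine ⟨⟨(f '' (W : Set Y)ᶜ)ᶜ, (hc _ W.2.isClosed_compl).isOpen_compl⟩, ?_, fun z hz => ?_⟩
  · rintro ⟨z, hz, he⟩
    exact hz ((huniq z he).symm ▸ hW)
  · by_contra h
    exact hz ⟨z, h, rfl⟩

theorem bijective_stalkPushforward (M : Y.Modules) :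
    Function.Bijective (TopCat.Presheaf.stalkPushforward Ab.{u} f.base M.presheaf ξ) := by
  have he : ∀ (U : X.Opens) (hU : f ξ ∈ U) (v : Γ(M, f ⁻¹ᵁ U)),
      TopCat.Presheaf.stalkPushforward Ab.{u} f.base M.presheaf ξ
        (((Coh.push f).obj M).presheaf.germ U (f ξ) hU v) = M.presheaf.germ (f ⁻¹ᵁ U) ξ hU v :=
    fun U hU v =>
      congrArg (fun φ => φ v) (TopCat.Presheaf.stalkPushforward_germ Ab.{u} f.base M.presheaf U ξ hU)
  refine ⟨fun a b hab => ?_, fun m => ?_⟩
  · obtain ⟨V₁, h₁, v₁, rfl⟩ := ((Coh.push f).obj M).presheaf.germ_exist a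
    obtain ⟨V₂, h₂, v₂, rfl⟩ := ((Coh.push f).obj M).presheaf.germ_exist b
    have hab' := (he V₁ h₁ v₁).symm.trans (hab.trans (he V₂ h₂ v₂))
    obtain ⟨W, hW, i₁, i₂, hres⟩ := M.presheaf.germ_eq ξ h₁ h₂ v₁ v₂ hab'
    obtain ⟨V, hV, hle⟩ := exists_nhd_preimage_le f hc ξ huniq W hW
    let V' := V ⊓ V₁ ⊓ V₂
    have hV' : f ξ ∈ V' := ⟨⟨hV, h₁⟩, h₂⟩
    rw [← ((Coh.push f).obj M).presheaf.germ_res_apply
        (homOfLE (inf_le_left.trans inf_le_right) : V' ⟶ V₁) (f ξ) hV' v₁,
      ← ((Coh.push f).obj M).presheaf.germ_res_apply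
        (homOfLE inf_le_right : V' ⟶ V₂) (f ξ) hV' v₂]
    congr 1
    have hVW : f ⁻¹ᵁ V' ≤ W := fun z hz => hle hz.1.1
    have := congrArg (M.presheaf.map (homOfLE hVW).op) hres
    simp only [← CategoryTheory.comp_apply, ← Functor.map_comp] at this
    exact this
  · obtain ⟨W, hW, v, rfl⟩ := M.presheaf.germ_exist m
    obtain ⟨V, hV, hle⟩ := exists_nhd_preimage_le f hc ξ huniq W hW
    refine ⟨((Coh.push f).obj M).presheaf.germ V (f ξ) hV (M.presheaf.map (homOfLE hle).op v), ?_⟩
    rw [he]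
    exact M.presheaf.germ_res_apply (homOfLE hle) ξ hV v

/-- The stalk of a push-forward at a point with one preimage. -/
theorem exists_stalkPush_semilinear (M : Y.Modules) :
    ∃ e : ((Coh.push f).obj M).presheaf.stalk (f ξ) ≃+ M.presheaf.stalk ξ,
      ∀ (a : X.presheaf.stalk (f ξ)) m, e (a • m) = (f.stalkMap ξ).hom a • e m := by
  let e := AddEquiv.ofBijective
    (TopCat.Presheaf.stalkPushforward Ab.{u} f.base M.presheaf ξ).hom
    (bijective_stalkPushforward f hc ξ huniq M)
  have he : ∀ (U : X.Opens) (hU : f ξ ∈ U) (v : Γ(M, f ⁻¹ᵁ U)),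
      e (((Coh.push f).obj M).presheaf.germ U (f ξ) hU v) = M.presheaf.germ (f ⁻¹ᵁ U) ξ hU v := fun U hU v =>
    congrArg (fun φ => φ v) (TopCat.Presheaf.stalkPushforward_germ Ab.{u} f.base M.presheaf U ξ hU)
  refine ⟨e, fun a m => ?_⟩
  obtain ⟨U, hU, b, rfl⟩ := X.presheaf.exists_germ_eq (x := f ξ) a
  obtain ⟨V, hV, v, rfl⟩ := ((Coh.push f).obj M).presheaf.germ_exist m
  have hW : f ξ ∈ U ⊓ V := ⟨hU, hV⟩
  rw [← X.presheaf.germ_res_apply (homOfLE inf_le_left : U ⊓ V ⟶ U) (f ξ) hW b,
    ← ((Coh.push f).obj M).presheaf.germ_res_apply (homOfLE inf_le_right : U ⊓ V ⟶ V) (f ξ) hW v]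
  generalize X.presheaf.map (homOfLE inf_le_left : U ⊓ V ⟶ U).op b = b'
  generalize ((Coh.push f).obj M).presheaf.map (homOfLE inf_le_right : U ⊓ V ⟶ V).op v = v'
  rw [← QCoh.germ_smul' ((Coh.push f).obj M) hW]
  refine (he _ hW _).trans
    ((QCoh.germ_smul' M (show ξ ∈ f ⁻¹ᵁ (U ⊓ V) from hW) (f.app _ b') v').trans ?_)
  exact congr_arg₂ (· • ·) (Scheme.Hom.germ_stalkMap_apply f (U ⊓ V) ξ hW b').symm (he _ hW v').symm

end stalk

variable (k : Type u) [Field k] [X.Over (Spec (CommRingCat.of k))] [Y.Over (Spec (CommRingCat.of k))]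
  [IsProper (X ↘ Spec (CommRingCat.of k))] [IsProper (Y ↘ Spec (CommRingCat.of k))]

theorem isProper_of_over (f : Y ⟶ X) (hf : f ≫ (X ↘ Spec (CommRingCat.of k)) = Y ↘ Spec (CommRingCat.of k)) :
    IsProper f := by
  haveI : IsProper (f ≫ (X ↘ Spec (CommRingCat.of k))) := by rw [hf]; infer_instance
  exact IsProper.of_comp f (X ↘ Spec (CommRingCat.of k))

theorem isFinite_of_avoid (hdim : topologicalKrullDim Y ≤ 1) (f : Y ⟶ X)
    (hf : f ≫ (X ↘ Spec (CommRingCat.of k)) = Y ↘ Spec (CommRingCat.of k))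
    {D : Set X} (hD : IsClosed D) (hout : ∀ y z : Y, f y ∉ D → f z = f y → z = y)
    (havoid : ∀ y ∈ topPts (Set.univ : Set Y) 1, f y ∉ D) : IsFinite f := by
  haveI := CurveCohLib.isNoetherian_of_proper (k := k) (X := Y)
  haveI := isProper_of_over k f hf
  haveI : LocallyQuasiFinite f := LocallyQuasiFinite.of_finite_preimage_singleton f fun x => by
    by_cases hx : x ∈ D
    · refine (finite_of_avoid_top hdim (hD.preimage f.continuous)
        fun y hy h => havoid y h hy).subset ?_
      rintro y rfl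
      exact hx
    · exact Set.Subsingleton.finite fun a ha b hb =>
        hout b a ((show f b = x from hb).symm ▸ hx) ((show f a = x from ha).trans (show f b = x from hb).symm)
  exact IsFinite.of_isProper_of_locallyQuasiFinite f

theorem exists_finset_deg_pullback (hdim : topologicalKrullDim X ≤ 1) (f : Y ⟶ X) [IsFinite f]
    (hf : f ≫ (X ↘ Spec (CommRingCat.of k)) = Y ↘ Spec (CommRingCat.of k))
    {E : X.Modules} {n : ℕ} (hE : FlatMod.IsFinLocFreeOfRank n E) :
    ∃ (G : Finset X) (d : X → ℤ), (∀ ξ, ξ ∈ G ↔ ξ ∈ topPts (Set.univ : Set X) 1) ∧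
      Curv2.deg k X E n =
        ∑ ξ ∈ G, ((Module.length (X.presheaf.stalk ξ) (X.presheaf.stalk ξ)).toNat : ℤ) * d ξ ∧
      Curv2.deg k Y ((Scheme.Modules.pullback f).obj E) n =
        ∑ ξ ∈ G, ((Module.length (X.presheaf.stalk ξ)
          (((Coh.push f).obj (Coh.structureModule Y)).presheaf.stalk ξ)).toNat : ℤ) * d ξ := by
  haveI := CurveCohLib.isNoetherian_of_proper (k := k) (X := X)
  haveI := CurveCohLib.isNoetherian_of_proper (k := k) (X := Y)
  have hd : topologicalKrullDim ↥(Set.univ : Set X) ≤ ((1 : ℕ) : WithBot ℕ∞) :=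
    (topologicalKrullDim_subspace_le X _).trans (by exact_mod_cast hdim)
  let G := (finite_topPts isClosed_univ hd).toFinset
  have hG : ∀ ξ, ξ ∈ G ↔ ξ ∈ topPts (Set.univ : Set X) 1 := fun ξ => Set.Finite.mem_toFinset _
  have hEf : FlatMod.IsFinLocFree E := fun y => let ⟨W, hy, he⟩ := hE y; ⟨W, n, hy, he⟩
  have hmem := fun {M : X.Modules} (hM : Coh.IsCoh M) => sub_topPts_mem (f := degDefect k E n) (K := ⊥) (d := 1)
    (degDefect_congr k E n) (fun S hS a b c _ => degDefect_add k hEf n S hS a b c)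
    (fun D hD _ N hN hND => degDefect_small k hE hD hN hND)
    isClosed_univ hd G hG hM (Set.subset_univ _)
  refine ⟨G, fun ξ => degDefect k E n (ClSub.quotMod (ptClosure ξ)), hG, ?_, ?_⟩
  · have h := hmem (QCoh.isCoh_structureModule' (X := X))
    rw [AddSubgroup.mem_bot, sub_eq_zero, degDefect_structureModule] at h
    rw [h]
    exact Finset.sum_congr rfl fun ξ _ => by
      rw [nsmul_eq_mul, H23.ClosedPushLen.length_structureModule]
  · have h := hmem (QCoh.isCoh_pushforward_finite f (QCoh.isCoh_structureModule' (X := Y)))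
    rw [AddSubgroup.mem_bot, sub_eq_zero, degDefect_push k f hf hE] at h
    rw [h]
    exact Finset.sum_congr rfl fun ξ _ => nsmul_eq_mul _ _

theorem length_self_of_bijective {R S : Type u} [CommRing R] [CommRing S] (g : R →+* S)
    (hg : Function.Bijective g) : Module.length R R = Module.length S S := by
  letI := g.toAlgebra
  rw [(LinearEquiv.ofBijective (Algebra.linearMap R S) hg).length_eq,
    Module.length_eq_of_surjective (S := R) (R := S) (M := S) hg.2]

theorem length_push_of_isIso (f : Y ⟶ X) (hc : IsClosedMap f) (ξ : Y)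
    (huniq : ∀ z : Y, f z = f ξ → z = ξ) (hiso : IsIso (f.stalkMap ξ)) :
    Module.length (X.presheaf.stalk (f ξ))
      (((Coh.push f).obj (Coh.structureModule Y)).presheaf.stalk (f ξ)) =
    Module.length (X.presheaf.stalk (f ξ)) (X.presheaf.stalk (f ξ)) := by
  haveI := hiso
  obtain ⟨e, he⟩ := exists_stalkPush_semilinear f hc ξ huniq (Coh.structureModule Y)
  letI := (f.stalkMap ξ).hom.toAlgebra
  letI : Module (X.presheaf.stalk (f ξ)) ((Coh.structureModule Y).presheaf.stalk ξ) :=
    Module.compHom _ (f.stalkMap ξ).hom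
  haveI : IsScalarTower (X.presheaf.stalk (f ξ)) (Y.presheaf.stalk ξ)
      ((Coh.structureModule Y).presheaf.stalk ξ) := IsScalarTower.of_algebraMap_smul fun _ _ => rfl
  have hb : Function.Bijective (f.stalkMap ξ).hom := ConcreteCategory.bijective_of_isIso (f.stalkMap ξ)
  rw [({ e with map_smul' := he } :
      _ ≃ₗ[X.presheaf.stalk (f ξ)] (Coh.structureModule Y).presheaf.stalk ξ).length_eq,
    Module.length_eq_of_surjective (S := X.presheaf.stalk (f ξ)) (R := Y.presheaf.stalk ξ) hb.2,
    H23.ClosedPushLen.length_structureModule]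
  exact (length_self_of_bijective _ hb).symm

/-- Degrees are unchanged under birational pull-back. -/
theorem deg_pullback_birational (hdim : topologicalKrullDim X ≤ 1) (hdim' : topologicalKrullDim Y ≤ 1)
    (f : Y ⟶ X) (hf : f ≫ (X ↘ Spec (CommRingCat.of k)) = Y ↘ Spec (CommRingCat.of k))
    (U : X.Opens) (hU : Dense (U : Set X)) (hU' : Dense ((f ⁻¹ᵁ U : Y.Opens) : Set Y))
    (hfU : IsIso (f ∣_ U)) {n : ℕ} {E : X.Modules} (hE : FlatMod.IsFinLocFreeOfRank n E) :
    Curv2.deg k Y ((Scheme.Modules.pullback f).obj E) n = Curv2.deg k X E n := by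
  haveI := CurveCohLib.isNoetherian_of_proper (k := k) (X := X)
  haveI := CurveCohLib.isNoetherian_of_proper (k := k) (X := Y)
  haveI := hfU
  haveI := isProper_of_over k f hf
  have hval : ∀ z : ↥(f ⁻¹ᵁ U), ((f ∣_ U) z : ↥U).1 = f z.1 := fun z => by
    rw [← Scheme.Opens.ι_apply, ← Scheme.Hom.comp_apply, morphismRestrict_ι]
    rfl
  have hbij := (f ∣_ U).homeomorph.bijective
  have hout : ∀ y z : Y, f y ∉ (U : Set X)ᶜ → f z = f y → z = y := fun y z hy hzy => by
    have hy' : y ∈ f ⁻¹ᵁ U := not_not.1 hy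
    have hz' : z ∈ f ⁻¹ᵁ U := show f z ∈ U from hzy ▸ not_not.1 hy
    exact congrArg Subtype.val (hbij.1 (a₁ := ⟨z, hz'⟩) (a₂ := ⟨y, hy'⟩)
      (Subtype.ext (show ((f ∣_ U) ⟨z, hz'⟩ : ↥U).1 = ((f ∣_ U) ⟨y, hy'⟩ : ↥U).1 from
        (hval ⟨z, hz'⟩).trans (hzy.trans (hval ⟨y, hy'⟩).symm))))
  have hd' : topologicalKrullDim ↥(Set.univ : Set Y) ≤ ((1 : ℕ) : WithBot ℕ∞) :=
    (topologicalKrullDim_subspace_le Y _).trans (by exact_mod_cast hdim')
  haveI : IsFinite f := isFinite_of_avoid k hdim' f hf U.2.isClosed_compl hout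
    fun y hy h => h (mem_open_of_dense hU' fun η hη =>
      topPts_maximal isClosed_univ hd' hy (Set.mem_univ _) hη)
  obtain ⟨G, d, hG, h1, h2⟩ := exists_finset_deg_pullback k hdim f hf hE
  rw [h1, h2]
  have hd : topologicalKrullDim ↥(Set.univ : Set X) ≤ ((1 : ℕ) : WithBot ℕ∞) :=
    (topologicalKrullDim_subspace_le X _).trans (by exact_mod_cast hdim)
  refine Finset.sum_congr rfl fun ξ hξ => ?_
  have hξU : ξ ∈ U := mem_open_of_dense hU fun η hη =>
    topPts_maximal isClosed_univ hd ((hG ξ).1 hξ) (Set.mem_univ _) hη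
  obtain ⟨⟨y, hy⟩, hyξ⟩ := hbij.2 ⟨ξ, hξU⟩
  obtain rfl : f y = ξ := (hval ⟨y, hy⟩).symm.trans (congrArg Subtype.val hyξ)
  rw [length_push_of_isIso f f.isClosedMap y (fun z hz => hout y z (not_not.2 hξU) hz)
    (((MorphismProperty.isomorphisms CommRingCat).arrow_mk_iso_iff
      (morphismRestrictStalkMap f U ⟨y, hy⟩)).1
      (show IsIso ((f ∣_ U).stalkMap ⟨y, hy⟩) from inferInstance))]

/-- The stalk of the structure module is the local ring. -/
def stalkStructureEquiv (x : X) :
    X.presheaf.stalk x ≃ₗ[X.presheaf.stalk x] (Coh.structureModule X).presheaf.stalk x :=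
  LinearEquiv.ofBijective (LinearMap.toSpanSingleton (X.presheaf.stalk x) _ (H23.UnitSec.one x))
    ⟨fun a b h => sub_eq_zero.1
      (H23.UnitSec.eq_zero_of_smul_one (a - b) (by rw [sub_smul]; exact sub_eq_zero.2 h)),
     fun m => Submodule.mem_span_singleton.1 ((H23.UnitSec.span_one x).ge (Submodule.mem_top : m ∈ ⊤))⟩

theorem finrank_eq_residueDegree (f : Y ⟶ X) (ξ : Y) (hA : IsField (X.presheaf.stalk (f ξ)))
    (hB : IsField (Y.presheaf.stalk ξ)) :
    letI := (f.stalkMap ξ).hom.toAlgebra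
    Module.finrank (X.presheaf.stalk (f ξ)) (Y.presheaf.stalk ξ) = f.residueDegree ξ := by
  letI := (f.stalkMap ξ).hom.toAlgebra
  letI := (f.residueFieldMap ξ).hom.toAlgebra
  have key : ∀ {R : CommRingCat.{u}} [IsLocalRing R], IsField R →
      Function.Bijective (IsLocalRing.residue R) := fun {R} _ hR =>
    ⟨(RingHom.injective_iff_ker_eq_bot _).2 (by
      rw [IsLocalRing.ker_residue]; exact (IsLocalRing.isField_iff_maximalIdeal_eq).1 hR),
      Ideal.Quotient.mk_surjective⟩
  exact Algebra.finrank_eq_of_equiv_equiv (RingEquiv.ofBijective _ (key hA))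
    (RingEquiv.ofBijective _ (key hB)) (RingHom.ext fun a => rfl)

/-- Degree of the pull-back along a nonconstant map of curves. -/
theorem deg_pullback_residueDegree [IsIntegral X] [IsIntegral Y]
    (hY : topologicalKrullDim Y = 1) (hX : topologicalKrullDim X = 1) (f : Y ⟶ X)
    (hf : f ≫ (X ↘ Spec (CommRingCat.of k)) = Y ↘ Spec (CommRingCat.of k))
    (hξ : f (genericPoint Y) = genericPoint X)
    {n : ℕ} {E : X.Modules} (hE : FlatMod.IsFinLocFreeOfRank n E) :
    Curv2.deg k Y ((Scheme.Modules.pullback f).obj E) n =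
      (f.residueDegree (genericPoint Y) : ℤ) * Curv2.deg k X E n := by
  haveI := CurveCohLib.isNoetherian_of_proper (k := k) (X := X)
  haveI := CurveCohLib.isNoetherian_of_proper (k := k) (X := Y)
  haveI := isProper_of_over k f hf
  have htop : ∀ {Z : Scheme.{u}} [IsIntegral Z], topologicalKrullDim Z = 1 → ∀ z : Z,
      z ∈ topPts (Set.univ : Set Z) 1 ↔ z = genericPoint Z := by
    intro Z _ hZ z
    have hd : topologicalKrullDim ↥(Set.univ : Set Z) ≤ ((1 : ℕ) : WithBot ℕ∞) :=
      (topologicalKrullDim_subspace_le Z _).trans (by exact_mod_cast hZ.le)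
    refine ⟨fun h => (topPts_maximal isClosed_univ hd h (Set.mem_univ _)
      (genericPoint_specializes z)).symm, fun h => ?_⟩
    subst h
    refine ⟨trivial, ?_⟩
    rw [isGenericPoint_def.1 (genericPoint_spec Z), (Homeomorph.Set.univ Z).isHomeomorph.topologicalKrullDim_eq, hZ]
    rfl
  have hclosed : ∀ z : Y, z ≠ genericPoint Y → f z ≠ genericPoint X := fun z hz he => by
    have hzc : IsClosed ({z} : Set Y) :=
      (isClosed_singleton_or_top hY.le z).resolve_right fun h => hz ((htop hY z).1 h)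
    have := (f.isClosedMap _ hzc)
    rw [Set.image_singleton, he] at this
    have hu : (Set.univ : Set X) = {genericPoint X} := by
      rw [← this.closure_eq]
      exact (isGenericPoint_def.1 (genericPoint_spec X)).symm
    have h0 := (htop hX (genericPoint X)).2 rfl
    have hlt : topologicalKrullDim X ≤ 0 := by
      haveI : Subsingleton X := ⟨fun a b => ((hu.le (Set.mem_univ a) : a = _).trans
        (hu.le (Set.mem_univ b) : b = _).symm)⟩
      exact topologicalKrullDim_zero_of_discreteTopology X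
    rw [hX] at hlt
    exact absurd hlt (by decide)
  haveI : LocallyQuasiFinite f := LocallyQuasiFinite.of_finite_preimage_singleton f fun x => by
    by_cases hx : x = genericPoint X
    · refine (Set.finite_singleton (genericPoint Y)).subset fun y hy => ?_
      exact by_contra fun h => hclosed y h ((show f y = x from hy).trans hx)
    · refine (finite_of_avoid_top hY.le ((isClosed_closure (s := {x})).preimage f.continuous)
        fun y hy h => hx ?_).subset fun y hy => subset_closure (show f y ∈ ({x} : Set X) from hy)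
      rw [(htop hY y).1 h] at hy
      exact ((genericPoint_specializes x).antisymm
        (specializes_iff_mem_closure.2 (hξ ▸ hy))).eq.symm
  haveI : IsFinite f := IsFinite.of_isProper_of_locallyQuasiFinite f
  obtain ⟨G, d, hG, h1, h2⟩ := exists_finset_deg_pullback k hX.le f hf hE
  have hG' : G = {genericPoint X} := Finset.ext fun x => by rw [hG, htop hX, Finset.mem_singleton]
  rw [hG', Finset.sum_singleton] at h1 h2
  rw [length_stalk_self_genericPoint] at h1
  simp only [ENat.toNat_one, Nat.cast_one, one_mul] at h1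
  rw [h2, h1]
  congr 2
  have hB : IsField (Y.presheaf.stalk (genericPoint Y)) := CurveBundle.isField_stalk_generic
  have hA : IsField (X.presheaf.stalk (f (genericPoint Y))) := by
    rw [hξ]; exact CurveBundle.isField_stalk_generic
  rw [← hξ]
  obtain ⟨e, he⟩ := exists_stalkPush_semilinear f f.isClosedMap (genericPoint Y)
    (fun z hz => by_contra fun h => hclosed z h (hz.trans hξ)) (Coh.structureModule Y)
  letI := hA.toField
  letI := (f.stalkMap (genericPoint Y)).hom.toAlgebra
  letI : Module (X.presheaf.stalk (f (genericPoint Y))) ((Coh.structureModule Y).presheaf.stalk (genericPoint Y)) :=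
    Module.compHom _ (f.stalkMap (genericPoint Y)).hom
  haveI : IsScalarTower (X.presheaf.stalk (f (genericPoint Y))) (Y.presheaf.stalk (genericPoint Y))
      ((Coh.structureModule Y).presheaf.stalk (genericPoint Y)) := IsScalarTower.of_algebraMap_smul fun _ _ => rfl
  rw [({ e with map_smul' := he } :
      _ ≃ₗ[X.presheaf.stalk (f (genericPoint Y))] (Coh.structureModule Y).presheaf.stalk (genericPoint Y)).length_eq,
    ← finrank_eq_residueDegree f (genericPoint Y) hA hB,
    ← ((stalkStructureEquiv (genericPoint Y)).restrictScalars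
      (X.presheaf.stalk (f (genericPoint Y)))).length_eq,
    Module.length_eq_rank, Cardinal.toNat_toENat]
  rfl

end Groth.Agent.VarInt
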