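import Groth.Agent.VarInt.Devissage
import Groth.Agent.VarInt.Closed
import Groth.Agent.Lib.CurveTensor
import Groth.Agent.QCoh.Pullback
import Mathlib.AlgebraicGeometry.IdealSheaf.IrreducibleComponent

/-! The degree on a scheme of dimension at most one as a sum over the components. -/

noncomputable section

set_option linter.style.haveILetI false
set_option linter.unusedSectionVars false
set_option backward.isDefEq.respectTransparency false
set_option backward.isDefEq.respectTransparency.types false

universe u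

open CategoryTheory CategoryTheory.Limits AlgebraicGeometry TopologicalSpace

namespace Groth.Agent.VarInt

open Groth.Agent

variable {X : Scheme.{u}}

theorem isClosed_singleton_of_dim_lt_one {D : Set X} (hD : IsClosed D)
    (h : topologicalKrullDim ↥D < ((1 : ℕ) : WithBot ℕ∞)) {x : X} (hx : x ∈ D) :
    IsClosed ({x} : Set X) := by
  have hd : topologicalKrullDim ↥(closure ({x} : Set X)) ≤ ((0 : ℕ) : WithBot ℕ∞) := by
    refine (H23.TopDim.dim_le_dim_of_subset
      (closure_minimal (Set.singleton_subset_iff.2 hx) hD)).trans ?_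
    generalize topologicalKrullDim ↥D = a at h ⊢
    cases a with
    | bot => exact bot_le
    | coe a =>
      refine WithBot.coe_le_coe.2 (le_of_eq (ENat.lt_one_iff_eq_zero.1 ?_))
      exact_mod_cast WithBot.coe_lt_coe.1 h
  refine closure_subset_iff_isClosed.1 fun η hη => by_contra fun hne => ?_
  haveI : Nonempty ↥(closure ({η} : Set X)) := ⟨⟨η, subset_closure rfl⟩⟩
  have hlt := dim_lt_of_specializes hd hη hne
  haveI : IrreducibleSpace ↥(closure ({η} : Set X)) :=
    isIrreducible_iff_irreducibleSpace.1 isIrreducible_singleton.closure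
  haveI : Nonempty (IrreducibleCloseds ↥(closure ({η} : Set X))) :=
    ⟨⟨Set.univ, IrreducibleSpace.isIrreducible_univ _, isClosed_univ⟩⟩
  exact absurd hlt (not_lt.2 (le_of_le_of_eq Order.krullDim_nonneg rfl))

theorem tensorMod_eq (E F : X.Modules) : CohB1.tensorMod E F = (DCoh.tensorBi.obj E).obj F := rfl

variable (k : Type u) [Field k] [X.Over (Spec (CommRingCat.of k))]
  [IsProper (X ↘ Spec (CommRingCat.of k))]

/-- The defect `χ(E ⊗ M) - n χ(M)`. -/
def degDefect (E : X.Modules) (n : ℕ) (M : X.Modules) : ℤ :=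
  Curv2.euler k X ((DCoh.tensorBi.obj E).obj M) - n * Curv2.euler k X M

theorem degDefect_structureModule (E : X.Modules) (n : ℕ) :
    degDefect k E n (Coh.structureModule X) = Curv2.deg k X E n := by
  rw [degDefect, Euler.euler_congr k (KFlatLib.tensorUnitIso E)]
  rfl

theorem degDefect_congr (E : X.Modules) (n : ℕ) (M N : X.Modules) (e : M ≅ N) :
    degDefect k E n M = degDefect k E n N := by
  rw [degDefect, degDefect, Euler.euler_congr k ((DCoh.tensorBi.obj E).mapIso e),
    Euler.euler_congr k e]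

theorem degDefect_add {E : X.Modules} (hEf : FlatMod.IsFinLocFree E) (n : ℕ)
    (S : ShortComplex X.Modules) (hS : S.ShortExact)
    (a : Coh.IsCoh S.X₁) (b : Coh.IsCoh S.X₂) (c : Coh.IsCoh S.X₃) :
    degDefect k E n S.X₂ = degDefect k E n S.X₁ + degDefect k E n S.X₃ := by
  haveI := CurveCohLib.isNoetherian_of_proper (k := k) (X := X)
  have ht := CurveBundle.euler_add' k _ _ _
    (CurveTensor.shortExact_tensor hEf S.f S.g S.zero hS)
    (CurveTensor.isCoh_tensor hEf a) (CurveTensor.isCoh_tensor hEf b) (CurveTensor.isCoh_tensor hEf c)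
  simp only [degDefect]
  rw [ht, Euler.euler_add k hS a b c]
  ring

theorem degDefect_small {E : X.Modules} {n : ℕ} (hE : FlatMod.IsFinLocFreeOfRank n E)
    {D : Closeds X} (hD : topologicalKrullDim ↥(D : Set X) < ((1 : ℕ) : WithBot ℕ∞))
    {M : X.Modules} (hM : Coh.IsCoh M) (hMD : CohB1.support M ⊆ D) :
    degDefect k E n M ∈ (⊥ : AddSubgroup ℤ) := AddSubgroup.mem_bot.2 <| by
  rw [degDefect, CurveTensor.euler_tensor_torsion k hE hM
    fun x hx => isClosed_singleton_of_dim_lt_one D.isClosed hD (hMD hx), sub_self]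

theorem degDefect_push {Z : Scheme.{u}} [Z.Over (Spec (CommRingCat.of k))] (i : Z ⟶ X)
    [IsAffineHom i] (hi : i ≫ (X ↘ Spec (CommRingCat.of k)) = Z ↘ Spec (CommRingCat.of k))
    {E : X.Modules} {n : ℕ} (hE : FlatMod.IsFinLocFreeOfRank n E) :
    degDefect k E n ((Coh.push i).obj (Coh.structureModule Z)) =
      Curv2.deg k Z ((Scheme.Modules.pullback i).obj E) n := by
  haveI : EnoughInjectives Z.Modules := inferInstance
  let O := Coh.structureModule Z
  let E' := (Scheme.Modules.pullback i).obj E
  have hEf : FlatMod.IsFinLocFree E := fun y => let ⟨W, hy, he⟩ := hE y; ⟨W, n, hy, he⟩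
  obtain ⟨φ⟩ := S0927.result i O E hEf 0
  let ψ := (Scheme.Modules.pushforward i).rightDerivedZeroIsoSelf
  have e : (DCoh.tensorBi.obj E).obj ((Coh.push i).obj O) ≅
      (Coh.push i).obj ((DCoh.tensorBi.obj E').obj O) :=
    PicGrp.tensorModIso (Iso.refl _) (ψ.app O).symm ≪≫ φ ≪≫ ψ.app _
  have h1 : Curv2.euler k X ((DCoh.tensorBi.obj E).obj ((Coh.push i).obj O)) =
      Curv2.euler k Z E' := by
    refine ((CurveCohLib.euler_congr (k := k) e).trans ?_)
    rw [Euler.euler_congr k ((Coh.push i).mapIso (KFlatLib.tensorUnitIso E'))]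
    exact euler_push k i hi (QCoh.isQCoh_pullback i (QCoh.isQCoh_of_isFinLocFree hEf))
  rw [degDefect, h1]
  congr 2
  exact euler_push k i hi QCoh.isQCoh_structureModule

theorem degDefect_quot_ptClosure {E : X.Modules} {n : ℕ}
    (hE : FlatMod.IsFinLocFreeOfRank n E) (ξ : X) :
    degDefect k E n (ClSub.quotMod (ptClosure ξ)) =
      @Curv2.deg k _ (ptClosure ξ).subscheme ⟨(ptClosure ξ).subschemeι ≫ (X ↘ Spec (CommRingCat.of k))⟩
        ((Scheme.Modules.pullback (ptClosure ξ).subschemeι).obj E) n := by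
  letI : (ptClosure ξ).subscheme.Over (Spec (CommRingCat.of k)) :=
    ⟨(ptClosure ξ).subschemeι ≫ (X ↘ Spec (CommRingCat.of k))⟩
  exact degDefect_push k (ptClosure ξ).subschemeι rfl hE

theorem deg_eq_sum_topPts (hdim : topologicalKrullDim X ≤ 1) {E : X.Modules} {n : ℕ}
    (hE : FlatMod.IsFinLocFreeOfRank n E) :
    ∃ G : Finset X, (∀ ξ, ξ ∈ G ↔ ξ ∈ topPts (Set.univ : Set X) 1) ∧
      Curv2.deg k X E n = ∑ ξ ∈ G,
        ((Module.length (X.presheaf.stalk ξ) (X.presheaf.stalk ξ)).toNat : ℤ) *
          @Curv2.deg k _ (ptClosure ξ).subscheme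
            ⟨(ptClosure ξ).subschemeι ≫ (X ↘ Spec (CommRingCat.of k))⟩
            ((Scheme.Modules.pullback (ptClosure ξ).subschemeι).obj E) n := by
  haveI := CurveCohLib.isNoetherian_of_proper (k := k) (X := X)
  have hd : topologicalKrullDim ↥(Set.univ : Set X) ≤ ((1 : ℕ) : WithBot ℕ∞) :=
    (topologicalKrullDim_subspace_le X _).trans (by exact_mod_cast hdim)
  refine ⟨(finite_topPts isClosed_univ hd).toFinset, fun ξ => Set.Finite.mem_toFinset _, ?_⟩
  have hEf : FlatMod.IsFinLocFree E := fun y => let ⟨W, hy, he⟩ := hE y; ⟨W, n, hy, he⟩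
  have h := sub_topPts_mem (f := degDefect k E n) (K := ⊥) (d := 1)
    (degDefect_congr k E n) (fun S hS a b c _ => degDefect_add k hEf n S hS a b c)
    (fun D hD _ M hM hMD => degDefect_small k hE hD hM hMD)
    isClosed_univ hd (finite_topPts isClosed_univ hd).toFinset (fun ξ => Set.Finite.mem_toFinset _)
    (QCoh.isCoh_structureModule' (X := X)) (Set.subset_univ _)
  rw [AddSubgroup.mem_bot, sub_eq_zero, degDefect_structureModule] at h
  rw [h]
  refine Finset.sum_congr rfl fun ξ _ => ?_
  rw [degDefect_quot_ptClosure k hE ξ, nsmul_eq_mul, H23.ClosedPushLen.length_structureModule]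

theorem radical_componentIdeal_eq [IsNoetherian X] (Z : Set X) (hZ : Z ∈ irreducibleComponents (X : Type u)) :
    (X.irreducibleComponentIdeal Z hZ).radical = ptClosure hZ.1.genericPoint := by
  rw [← Scheme.IdealSheafData.vanishingIdeal_support]
  refine congrArg _ (Closeds.ext ?_)
  exact (isGenericPoint_def.1 (hZ.1.isGenericPoint_genericPoint
    (isClosed_of_mem_irreducibleComponents Z hZ))).symm

theorem deg_eq_finsum_components [IsNoetherian X] (hdim : topologicalKrullDim X ≤ 1) {E : X.Modules} {n : ℕ}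
    (hE : FlatMod.IsFinLocFreeOfRank n E) :
    Curv2.deg k X E n = ∑ᶠ Z : irreducibleComponents (X : Type u),
      (if topologicalKrullDim (Z.1 : Set X) = 1 then
        ((Module.length (X.presheaf.stalk Z.2.1.genericPoint) (X.presheaf.stalk Z.2.1.genericPoint)).toNat : ℤ) *
          @Curv2.deg k _ (X.irreducibleComponentIdeal Z.1 Z.2).radical.subscheme ⟨(X.irreducibleComponentIdeal Z.1 Z.2).radical.subschemeι ≫ (X ↘ (Spec (CommRingCat.of k)))⟩ ((Scheme.Modules.pullback (X.irreducibleComponentIdeal Z.1 Z.2).radical.subschemeι).obj E) n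
      else 0) := by
  haveI := CurveCohLib.isNoetherian_of_proper (k := k) (X := X)
  obtain ⟨G, hG, h⟩ := deg_eq_sum_topPts k hdim hE
  have hgen : ∀ Z : irreducibleComponents (X : Type u), closure {Z.2.1.genericPoint} = Z.1 :=
    fun Z => isGenericPoint_def.1 (Z.2.1.isGenericPoint_genericPoint
      (isClosed_of_mem_irreducibleComponents Z.1 Z.2))
  have hinj : Function.Injective fun Z : irreducibleComponents (X : Type u) => Z.2.1.genericPoint :=
    fun Z Z' e => Subtype.ext (by
      have e' : Z.2.1.genericPoint = Z'.2.1.genericPoint := e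
      rw [← hgen Z, ← hgen Z', e'])
  have hd : topologicalKrullDim ↥(Set.univ : Set X) ≤ ((1 : ℕ) : WithBot ℕ∞) :=
    (topologicalKrullDim_subspace_le X _).trans (by exact_mod_cast hdim)
  haveI : Fintype ↥(irreducibleComponents (X : Type u)) :=
    NoetherianSpace.finite_irreducibleComponents.fintype
  rw [h, finsum_eq_sum_of_fintype, ← Finset.sum_filter]
  symm
  refine Finset.sum_bij (fun Z _ => Z.2.1.genericPoint) (fun Z hZ => ?_)
    (fun Z _ Z' _ e => hinj e) (fun ξ hξ => ?_) (fun Z _ => ?_)
  · rw [Finset.mem_filter] at hZ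
    rw [hG]
    exact ⟨trivial, by rw [hgen]; exact_mod_cast hZ.2⟩
  · rw [hG] at hξ
    have hC : closure ({ξ} : Set X) ∈ irreducibleComponents (X : Type u) :=
      ⟨isIrreducible_singleton.closure, fun t ht hle => by
        obtain ⟨η, hη⟩ := QuasiSober.sober (S := closure t) ht.closure isClosed_closure
        have : η = ξ := topPts_maximal isClosed_univ hd hξ (Set.mem_univ _)
          (hη.specializes (subset_closure (hle (subset_closure rfl))))
        subst this
        exact subset_closure.trans hη.symm.le⟩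
    refine ⟨⟨_, hC⟩, Finset.mem_filter.2 ⟨Finset.mem_univ _, ?_⟩, ?_⟩
    · exact_mod_cast hξ.2
    · exact (inseparable_iff_closure_eq.2 (hgen ⟨_, hC⟩)).eq
  · congr 1
    rw [radical_componentIdeal_eq Z.1 Z.2]

end Groth.Agent.VarInt
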