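import Groth.Agent.Snapper.MPoly
import Mathlib.Algebra.MvPolynomial.Funext
import Mathlib.Algebra.BigOperators.Ring.Finset
import Mathlib.Data.Rat.Cast.CharZero

/-! Top coefficient of a polynomial known at natural arguments. -/

noncomputable section

open MvPolynomial

namespace Groth.Agent.VarInt

open Groth.Agent

/-- Polynomials agreeing at natural arguments agree. -/
theorem eq_of_eval_natCast {σ : Type} {P Q : MvPolynomial σ ℚ}
    (h : ∀ n : σ → ℕ, eval (fun i => (n i : ℚ)) P = eval (fun i => (n i : ℚ)) Q) : P = Q := by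
  refine funext_set (fun _ => Set.range (Nat.cast : ℕ → ℚ))
    (fun _ => Set.infinite_range_of_injective Nat.cast_injective) fun x hx => ?_
  choose n hn using fun i => hx i trivial
  have := h n
  simpa [hn] using this

/-- The exponent `(1, …, 1)`. -/
def ones (d : ℕ) : Fin d →₀ ℕ := Finsupp.equivFunOnFinite.symm fun _ => 1

@[simp] theorem ones_apply {d : ℕ} (i : Fin d) : ones d i = 1 := rfl

theorem coeff_ones_of_degLt {d : ℕ} {Q : MvPolynomial (Fin d) ℚ} (h : Snapper.DegLt d Q) :
    coeff (ones d) Q = 0 := by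
  by_contra hne
  have := h _ (mem_support_iff.2 hne)
  rw [Finsupp.sum_fintype _ _ fun _ => rfl] at this
  simp at this

theorem eq_ones {d : ℕ} {α : Fin d →₀ ℕ} (h1 : ∀ i, α i ≠ 0) (h : (α.sum fun _ e => e) ≤ d) :
    α = ones d := by
  rw [Finsupp.sum_fintype _ _ fun _ => rfl] at h
  ext i
  rw [ones_apply]
  by_contra hi
  have : ∑ _j : Fin d, (1 : ℕ) < ∑ j, α j :=
    Finset.sum_lt_sum (fun j _ => Nat.one_le_iff_ne_zero.2 (h1 j))
      ⟨i, Finset.mem_univ _, lt_of_le_of_ne (Nat.one_le_iff_ne_zero.2 (h1 i)) (Ne.symm hi)⟩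
  simp at this
  omega

/-- The mixed difference of order `d` computes the coefficient of the product of the variables. -/
theorem coeff_ones_eq_sum {d : ℕ} {Q : MvPolynomial (Fin d) ℚ} (h : Snapper.DegLt (d + 1) Q) :
    coeff (ones d) Q = ∑ S ∈ (Finset.univ : Finset (Fin d)).powerset,
      (-1) ^ (Finset.univ \ S).card * eval (fun i => if i ∈ S then (1 : ℚ) else 0) Q := by
  classical
  have key : ∀ α : Fin d →₀ ℕ, (∑ S ∈ (Finset.univ : Finset (Fin d)).powerset,
      (-1 : ℚ) ^ (Finset.univ \ S).card * ∏ i, (if i ∈ S then (1 : ℚ) else 0) ^ α i) =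
      ∏ i, ((1 : ℚ) + -((0 : ℚ) ^ α i)) := fun α => by
    rw [Finset.prod_add]
    refine Finset.sum_congr rfl fun S _ => ?_
    rw [Finset.prod_const_one, one_mul, Finset.prod_neg]
    congr 1
    rw [← Finset.prod_sdiff (Finset.subset_univ S)]
    have hS : ∏ i ∈ S, (if i ∈ S then (1 : ℚ) else 0) ^ α i = 1 :=
      Finset.prod_eq_one fun i hi => by rw [if_pos hi, one_pow]
    rw [hS, mul_one]
    exact Finset.prod_congr rfl fun i hi => by rw [if_neg (Finset.mem_sdiff.1 hi).2]
  simp only [eval_eq', Finset.mul_sum]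
  rw [Finset.sum_comm]
  rw [Finset.sum_eq_single (ones d)]
  · simp only [mul_left_comm _ (coeff (ones d) Q), ← Finset.mul_sum, key]
    simp
  · intro α hα hne
    simp only [mul_left_comm _ (coeff α Q), ← Finset.mul_sum, key]
    obtain ⟨i, hi⟩ : ∃ i, α i = 0 := by
      by_contra! hc
      exact hne (eq_ones hc (Nat.lt_succ_iff.1 (h α hα)))
    rw [Finset.prod_eq_zero (Finset.mem_univ i) (by simp [hi]), mul_zero]
  · intro hn
    simp [notMem_support_iff.1 hn]

/-- An integer-valued polynomial of degree at most `d` has integral coefficient at the product of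
the variables. -/
theorem coeff_ones_int {d : ℕ} {Q : MvPolynomial (Fin d) ℚ} (h : Snapper.DegLt (d + 1) Q)
    (hz : ∀ n : Fin d → ℕ, ∃ z : ℤ, eval (fun i => (n i : ℚ)) Q = z) :
    ∃ z : ℤ, coeff (ones d) Q = z := by
  choose z hz using hz
  refine ⟨∑ S ∈ (Finset.univ : Finset (Fin d)).powerset,
    (-1) ^ (Finset.univ \ S).card * z (fun i => if i ∈ S then 1 else 0), ?_⟩
  rw [coeff_ones_eq_sum h]
  push_cast
  refine Finset.sum_congr rfl fun S _ => ?_
  rw [← hz]
  congr 2
  congr 1
  funext i
  split_ifs <;> simp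

/-- The mixed difference of a sum split along the first variable. -/
theorem sum_powerset_fin_succ {e : ℕ} {A : Type*} [AddCommMonoid A]
    (f : Finset (Fin (e + 1)) → A) :
    ∑ S ∈ (Finset.univ : Finset (Fin (e + 1))).powerset, f S =
      (∑ T ∈ (Finset.univ : Finset (Fin e)).powerset, f (T.map (Fin.succEmb e))) +
        ∑ T ∈ (Finset.univ : Finset (Fin e)).powerset, f (insert 0 (T.map (Fin.succEmb e))) := by
  classical
  have hu : (Finset.univ : Finset (Fin (e + 1))) =
      insert 0 ((Finset.univ : Finset (Fin e)).map (Fin.succEmb e)) := by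
    ext i
    refine Fin.cases (by simp) (fun j => by simp) i
  have hn : (0 : Fin (e + 1)) ∉ (Finset.univ : Finset (Fin e)).map (Fin.succEmb e) := by
    simp [Fin.succ_ne_zero]
  have hmap : ((Finset.univ : Finset (Fin e)).map (Fin.succEmb e)).powerset =
      (Finset.univ : Finset (Fin e)).powerset.map (Finset.mapEmbedding (Fin.succEmb e)).toEmbedding := by
    ext S
    simp only [Finset.mem_powerset, Finset.mem_map, RelEmbedding.coe_toEmbedding,
      Finset.mapEmbedding_apply]
    constructor
    · intro h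
      obtain ⟨T, hT, rfl⟩ := Finset.subset_map_iff.1 h
      exact ⟨T, hT, rfl⟩
    · rintro ⟨T, hT, rfl⟩
      exact Finset.map_subset_map.2 hT
  rw [hu, Finset.sum_powerset_insert hn, hmap, Finset.sum_map, Finset.sum_map]
  rfl

end Groth.Agent.VarInt
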