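import Groth.Agent.VarInt.Devissage
import Groth.Agent.VarInt.Closed
import Groth.Agent.VarInt.PolyTop
import Groth.Agent.ParShLib.ResStalk

/-! Intersection numbers as sums over components. -/

noncomputable section

set_option linter.style.haveILetI false
set_option linter.unusedSectionVars false
set_option backward.isDefEq.respectTransparency false
set_option backward.isDefEq.respectTransparency.types false

universe u

open CategoryTheory CategoryTheory.Limits AlgebraicGeometry TopologicalSpace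

namespace Groth.Agent.VarInt

open Groth.Agent

variable {X : Scheme.{u}} (k : Type u) [Field k] [X.Over (Spec (CommRingCat.of k))]
  [IsProper (X ↘ Spec (CommRingCat.of k))] {r : ℕ}

theorem dim_support_quotMod_le (D : X.IdealSheafData) :
    topologicalKrullDim ↥(CohB1.support (ClSub.quotMod D)) ≤
      topologicalKrullDim ↥(D.support : Set X) :=
  H23.TopDim.dim_le_dim_of_subset fun _ hx =>
    not_not.1 fun h => hx (ParShLib.subsingleton_stalk_quotMod D h)

theorem finsum_topPts {M : X.Modules} {d : ℕ} (G : Finset X)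
    (hG : ∀ ξ, ξ ∈ G ↔ ξ ∈ topPts (CohB1.support M) d) (a : X → ℚ) :
    ∑ᶠ ξ : X, (if topologicalKrullDim (closure ({ξ} : Set X)) = (d : WithBot ℕ∞) then
        ((Module.length (X.presheaf.stalk ξ) (M.presheaf.stalk ξ)).toNat : ℚ) * a ξ else 0) =
      ∑ ξ ∈ G, ((Module.length (X.presheaf.stalk ξ) (M.presheaf.stalk ξ)).toNat : ℚ) * a ξ := by
  rw [finsum_eq_sum_of_support_subset _ (s := G) fun ξ hξ => ?_]
  · exact Finset.sum_congr rfl fun ξ hξ => by rw [if_pos ((hG ξ).1 hξ).2]
  · rw [Function.mem_support] at hξ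
    rw [Finset.mem_coe, hG]
    by_cases h : topologicalKrullDim ↥(closure ({ξ} : Set X)) = (d : WithBot ℕ∞)
    · refine ⟨fun hs => hξ ?_, h⟩
      haveI := hs
      simp [Module.length_eq_zero]
    · rw [if_neg h] at hξ
      exact absurd rfl hξ

/-- The intersection number is the weighted sum over the components. -/
theorem coeff_eq_finsum {d : ℕ} {L : Fin d → X.Modules} (hL : ∀ i, PicF.IsInvertible (L i))
    {M : X.Modules} (hM : Coh.IsCoh M) (hd : topologicalKrullDim ↥(CohB1.support M) ≤ d)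
    {P : MvPolynomial (Fin d) ℚ}
    (hP : ∀ n, Snapper.χs k L M n = MvPolynomial.eval (fun i => (n i : ℚ)) P)
    {Q : X → MvPolynomial (Fin d) ℚ}
    (hQ : ∀ ξ : X, topologicalKrullDim (closure ({ξ} : Set X)) = (d : WithBot ℕ∞) →
      ∀ n, Snapper.χs k L (ClSub.quotMod (ptClosure ξ)) n =
        MvPolynomial.eval (fun i => (n i : ℚ)) (Q ξ)) :
    MvPolynomial.coeff (ones d) P =
      ∑ᶠ ξ : X, (if topologicalKrullDim (closure ({ξ} : Set X)) = (d : WithBot ℕ∞) then
        ((Module.length (X.presheaf.stalk ξ) (M.presheaf.stalk ξ)).toNat : ℚ) *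
          MvPolynomial.coeff (ones d) (Q ξ) else 0) := by
  obtain ⟨G, hG, R, hR, hRn⟩ := isMPolyLt_sub_finsum k hL hM hd
  rw [finsum_topPts G hG]
  have e : P = R + ∑ ξ ∈ G, MvPolynomial.C
      ((Module.length (X.presheaf.stalk ξ) (M.presheaf.stalk ξ)).toNat : ℚ) * Q ξ := by
    refine eq_of_eval_natCast fun n => ?_
    have h := hRn n
    simp only [Pi.sub_apply, Finset.sum_apply, term, Pi.smul_apply, smul_eq_mul] at h
    rw [map_add, ← h, ← hP, map_sum, Finset.sum_congr (s₁ := G) rfl fun ξ hξ => show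
      MvPolynomial.eval (fun i => (n i : ℚ)) (MvPolynomial.C
        ((Module.length (X.presheaf.stalk ξ) (M.presheaf.stalk ξ)).toNat : ℚ) * Q ξ) =
      ((Module.length (X.presheaf.stalk ξ) (M.presheaf.stalk ξ)).toNat : ℚ) *
        Snapper.χs k L (ClSub.quotMod (ptClosure ξ)) n by
      rw [map_mul, MvPolynomial.eval_C, hQ ξ ((hG ξ).1 hξ).2 n]]
    exact (sub_add_cancel _ _).symm
  rw [e, MvPolynomial.coeff_add, coeff_ones_of_degLt hR, zero_add, MvPolynomial.coeff_sum]
  exact Finset.sum_congr rfl fun ξ _ => MvPolynomial.coeff_C_mul _ _ _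

/-- Intersection numbers are integers. -/
theorem coeff_isInteger {d : ℕ} {L : Fin d → X.Modules} (hL : ∀ i, PicF.IsInvertible (L i))
    {M : X.Modules} (hM : Coh.IsCoh M) (hd : topologicalKrullDim ↥(CohB1.support M) ≤ d)
    {P : MvPolynomial (Fin d) ℚ}
    (hP : ∀ n, Snapper.χs k L M n = MvPolynomial.eval (fun i => (n i : ℚ)) P) :
    ∃ z : ℤ, MvPolynomial.coeff (ones d) P = z := by
  obtain ⟨P', hP', hP'n⟩ := Snapper.exists_mpoly k hL hM hd
  have : P = P' := eq_of_eval_natCast fun n => (hP n).symm.trans (hP'n n)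
  subst this
  exact coeff_ones_int (Snapper.degLt_of_totalDegree (Nat.lt_succ_of_le hP'))
    fun n => ⟨_, (hP n).symm⟩

/-- The top part, with the Euler characteristics taken on the components. -/
theorem exists_lowDeg {L : Fin r → X.Modules} (hL : ∀ i, PicF.IsInvertible (L i))
    {M : X.Modules} (hM : Coh.IsCoh M) {d : ℕ}
    (hd : topologicalKrullDim ↥(CohB1.support M) ≤ d) :
    ∃ P : MvPolynomial (Fin r) ℚ, Snapper.DegLt d P ∧ ∀ n : Fin r → ℕ,
      Snapper.χs k L M n -
        ∑ᶠ ξ : X, (if topologicalKrullDim (closure ({ξ} : Set X)) = (d : WithBot ℕ∞) then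
          ((Module.length (X.presheaf.stalk ξ) (M.presheaf.stalk ξ)).toNat : ℚ) *
            (@Curv2.euler k _ (ptClosure ξ).subscheme
              ⟨(ptClosure ξ).subschemeι ≫ (X ↘ (Spec (CommRingCat.of k)))⟩
              (Curv2.tensorPows (Coh.structureModule (ptClosure ξ).subscheme) r
                (fun i => (Scheme.Modules.pullback (ptClosure ξ).subschemeι).obj (L i)) n) : ℚ)
        else 0) = MvPolynomial.eval (fun i => (n i : ℚ)) P := by
  obtain ⟨G, hG, R, hR, hRn⟩ := isMPolyLt_sub_finsum k hL hM hd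
  refine ⟨R, hR, fun n => ?_⟩
  rw [finsum_topPts G hG, ← hRn n]
  simp only [Pi.sub_apply, Finset.sum_apply, term, Pi.smul_apply, smul_eq_mul]
  congr 1
  refine Finset.sum_congr rfl fun ξ _ => ?_
  congr 1
  letI : (ptClosure ξ).subscheme.Over (Spec (CommRingCat.of k)) :=
    ⟨(ptClosure ξ).subschemeι ≫ (X ↘ (Spec (CommRingCat.of k)))⟩
  exact congrArg Int.cast (euler_push_tensorPows k (ptClosure ξ).subschemeι rfl
    QCoh.isQCoh_structureModule hL n).symm

end Groth.Agent.VarInt
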