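import Groth.Agent.VarInt.Main
import Groth.Agent.BlowUpX.Basic
import Groth.Agent.Lib.CurveSlope
import Groth.Agent.Lib.CurveTensor
import Groth.Prelude.Def_FGA

/-! Intersection with an effective Cartier divisor. -/

noncomputable section

set_option linter.style.haveILetI false
set_option linter.unusedSectionVars false
set_option backward.isDefEq.respectTransparency false
set_option backward.isDefEq.respectTransparency.types false

universe u

open CategoryTheory CategoryTheory.Limits AlgebraicGeometry TopologicalSpace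

namespace Groth.Agent.VarInt

open Groth.Agent

variable {X : Scheme.{u}}

/-- `O_X → O_D` is an epimorphism. -/
theorem epi_toSubscheme (D : X.IdealSheafData) : Epi (ClSub.toSubscheme D) := by
  refine Preadditive.epi_of_isZero_cokernel _ (CurveCohLib.isZero_of_subsingleton_stalks fun x => ?_)
  haveI : Epi ((DerSch.stalkFunctor X x).map (ClSub.toSubscheme D)) := by
    refine (ModuleCat.epi_iff_surjective _).2 fun q => ?_
    obtain ⟨V, hxV, s, rfl⟩ := (ClSub.quotMod D).presheaf.germ_exist q
    obtain ⟨_, ⟨W, hW, rfl⟩, hxW, hWV⟩ :=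
      X.isBasis_affineOpens.exists_subset_of_mem_open (show x ∈ V from hxV) V.2
    have hle : W ≤ V := hWV
    obtain ⟨r, hr⟩ := D.subschemeι_app_surjective ⟨W, hW⟩
      (show Γ(D.subscheme, D.subschemeι ⁻¹ᵁ W) from (ClSub.quotMod D).presheaf.map (homOfLE hle).op s)
    refine ⟨(Coh.structureModule X).presheaf.germ W x hxW r, ?_⟩
    rw [← (ClSub.quotMod D).presheaf.germ_res_apply (homOfLE hle) x hxW s]
    refine Eq.trans ?_ (congrArg ((ClSub.quotMod D).presheaf.germ W x hxW) hr)
    exact TopCat.Presheaf.stalkFunctor_map_germ_apply W x hxW ((Scheme.Modules.toPresheaf X).map (ClSub.toSubscheme D)) r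
  exact ModuleCat.subsingleton_of_isZero ((isZero_cokernel_of_epi
    ((DerSch.stalkFunctor X x).map (ClSub.toSubscheme D))).of_iso
      (PreservesCokernel.iso (DerSch.stalkFunctor X x) (ClSub.toSubscheme D)))

/-- A closed set containing no generic point has smaller dimension. -/
theorem dim_le_of_no_generic {e : ℕ} (hX : topologicalKrullDim X ≤ ((e + 1 : ℕ) : WithBot ℕ∞))
    {S : Set X} (hS : IsClosed S) (h : ∀ x ∈ S, ∃ z : X, z ⤳ x ∧ z ≠ x) :
    topologicalKrullDim ↥S ≤ e := by
  refine H23.TopDim.dim_le fun p => ?_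
  obtain ⟨η, hη⟩ := QuasiSober.sober
    ((p.last.isIrreducible.image _ continuous_subtype_val.continuousOn).closure) isClosed_closure
  have hηS : η ∈ S := hS.closure_subset_iff.2 (Subtype.coe_image_subset _ _) hη.mem
  obtain ⟨z, hz, hne⟩ := h η hηS
  have hle : (p.length : WithBot ℕ∞) ≤ topologicalKrullDim ↥(closure ({η} : Set X)) := by
    refine (H23.TopDim.length_le_dim_subset p
      (S := {y : ↥S | (y : X) ∈ closure ({η} : Set X)}) fun y hy => ?_).trans ?_
    · exact hη.symm ▸ subset_closure ⟨y, hy, rfl⟩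
    · let g : ↥{y : ↥S | (y : X) ∈ closure ({η} : Set X)} → ↥(closure ({η} : Set X)) :=
        fun y => ⟨y.1.1, y.2⟩
      have hcomp : Topology.IsInducing (Subtype.val ∘ g) :=
        show Topology.IsInducing ((Subtype.val : ↥S → X) ∘
            (Subtype.val : ↥{y : ↥S | (y : X) ∈ closure ({η} : Set X)} → ↥S)) from
          Topology.IsInducing.subtypeVal.comp Topology.IsInducing.subtypeVal
      exact (Topology.IsInducing.subtypeVal.of_comp_iff.1 hcomp).topologicalKrullDim_le
  have hlt := hle.trans_lt (dim_lt_of_specializes (ξ := z) (η := η) (d := e + 1)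
    ((topologicalKrullDim_subspace_le _ _).trans hX) (specializes_iff_mem_closure.1 hz) (Ne.symm hne))
  have hlt' : p.length < e + 1 := by exact_mod_cast hlt
  exact_mod_cast Nat.lt_succ_iff.1 hlt'

theorem dim_support_effCartier {e : ℕ} (hX : topologicalKrullDim X ≤ ((e + 1 : ℕ) : WithBot ℕ∞))
    {D : X.IdealSheafData} (hD : FGA.IsEffCartier D) :
    topologicalKrullDim ↥(D.support : Set X) ≤ e :=
  dim_le_of_no_generic hX D.support.isClosed fun x hx => by
    by_contra! hc
    exact BlowUpX.notMem_support_of_generic hD x hc hx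

/-- A vanishing first exponent drops out. -/
theorem nonempty_tensorPows_zero_head (M : X.Modules) : ∀ {r : ℕ} (L : Fin (r + 1) → X.Modules)
    (n : Fin (r + 1) → ℕ), n 0 = 0 →
      Nonempty (Curv2.tensorPows M (r + 1) L n ≅
        Curv2.tensorPows M r (fun j => L j.succ) (fun j => n j.succ))
  | 0, L, n, h => by
    show Nonempty (CohB1.tensorMod M (CohB1.tensorPow (L 0) (n 0)) ≅ M)
    rw [h]
    exact H23.PicMul.unit M
  | r + 1, L, n, h => by
    obtain ⟨e⟩ := nonempty_tensorPows_zero_head M (fun j => L j.castSucc) (fun j => n j.castSucc) h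
    exact ⟨PicGrp.tensorModIso e (Iso.refl _)⟩

variable (k : Type u) [Field k] [X.Over (Spec (CommRingCat.of k))]
  [IsProper (X ↘ Spec (CommRingCat.of k))]

theorem χs_tensor_bump {r : ℕ} {L : Fin r → X.Modules} (i : Fin r) (M : X.Modules) (n : Fin r → ℕ) :
    Snapper.χs k L (CohB1.tensorMod (L i) M) n = Snapper.χs k L M (Function.update n i (n i + 1)) :=
  congrArg Int.cast (CurveCohLib.euler_congr (k := k)
    ((Snapper.tensorPows_swap (L i) L n M).some ≪≫ (Snapper.tensorPows_bump L n i M).some))

/-- Raising the exponent of `O(D)`. -/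
theorem χs_effCartier {r : ℕ} {L : Fin r → X.Modules} (hL : ∀ i, PicF.IsInvertible (L i)) (i : Fin r)
    (D : X.IdealSheafData) (hLD : ClSub.IsInverseOf (L i) (ClSub.idealMod D)) (n : Fin r → ℕ) :
    Snapper.χs k L (Coh.structureModule X) (Function.update n i (n i + 1)) =
      Snapper.χs k L (Coh.structureModule X) n +
        Snapper.χs k L (ClSub.quotMod D) (Function.update n i (n i + 1)) := by
  haveI := CurveCohLib.isNoetherian_of_proper (k := k) (X := X)
  haveI := epi_toSubscheme D
  have hQ := ParShLib.isCoh_quotMod D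
  have hO := QCoh.isCoh_structureModule' (X := X)
  have hI : Coh.IsCoh (ClSub.idealMod D) := QCoh.isCoh_kernel hO hQ _
  have hS : (ShortComplex.mk (ClSub.idealModι D) (ClSub.toSubscheme D) (kernel.condition _)).ShortExact :=
    CurveSlope.shortExact_kernel_of_epi _
  have hLf : FlatMod.IsFinLocFree (L i) := fun y =>
    let ⟨W, hy, he⟩ := InvEnd.isFinLocFreeOfRank_one (hL i) y; ⟨W, 1, hy, he⟩
  have h := congrFun (Snapper.χs_add k hL (CurveTensor.shortExact_tensor hLf _ _ _ hS)
    (CurveTensor.isCoh_tensor hLf hI) (CurveTensor.isCoh_tensor hLf hO)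
    (CurveTensor.isCoh_tensor hLf hQ)) n
  rw [Pi.add_apply] at h
  obtain ⟨φ⟩ := hLD
  rw [← χs_tensor_bump k i (Coh.structureModule X) n, ← χs_tensor_bump k i (ClSub.quotMod D) n,
    ← Snapper.χs_congr k φ n]
  exact h

/-- The intersection number with an effective Cartier divisor is that on the divisor. -/
theorem coeff_effCartier {e : ℕ} (hX : topologicalKrullDim X ≤ ((e + 1 : ℕ) : WithBot ℕ∞))
    {D : X.IdealSheafData} (hD : FGA.IsEffCartier D) {L : Fin (e + 1) → X.Modules}
    (hL : ∀ j, PicF.IsInvertible (L j)) (hLD : ClSub.IsInverseOf (L 0) (ClSub.idealMod D))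
    {P : MvPolynomial (Fin (e + 1)) ℚ} {Q : MvPolynomial (Fin e) ℚ}
    (hP : ∀ n, Snapper.χs k L (Coh.structureModule X) n = MvPolynomial.eval (fun i => (n i : ℚ)) P)
    (hQ : ∀ n, Snapper.χs k (fun j => L j.succ) (ClSub.quotMod D) n =
      MvPolynomial.eval (fun i => (n i : ℚ)) Q) :
    MvPolynomial.coeff (ones (e + 1)) P = MvPolynomial.coeff (ones e) Q := by
  classical
  haveI := CurveCohLib.isNoetherian_of_proper (k := k) (X := X)
  have hzero : ∀ n : Fin (e + 1) → ℕ, n 0 = 0 → Snapper.χs k L (ClSub.quotMod D) n =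
      Snapper.χs k (fun j => L j.succ) (ClSub.quotMod D) fun j => n j.succ := fun n hn =>
    congrArg Int.cast (CurveCohLib.euler_congr (k := k)
      (nonempty_tensorPows_zero_head (ClSub.quotMod D) L n hn).some)
  have hQc := ParShLib.isCoh_quotMod D
  have hdimQ := (dim_support_quotMod_le D).trans (dim_support_effCartier hX hD)
  obtain ⟨P', hP', hP'n⟩ := Snapper.exists_mpoly k hL QCoh.isCoh_structureModule' (d := e + 1)
    ((topologicalKrullDim_subspace_le _ _).trans hX)
  obtain rfl : P = P' := eq_of_eval_natCast fun n => (hP n).symm.trans (hP'n n)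
  obtain ⟨Q', hQ', hQ'n⟩ := Snapper.exists_mpoly k (L := fun j => L j.succ) (fun j => hL _) hQc (d := e) hdimQ
  obtain rfl : Q = Q' := eq_of_eval_natCast fun n => (hQ n).symm.trans (hQ'n n)
  obtain ⟨R, hR, hRn⟩ := Snapper.exists_mpoly k hL hQc (d := e) hdimQ
  have hR' : Snapper.DegLt (e + 1) R := Snapper.degLt_of_totalDegree (Nat.lt_succ_of_le hR)
  have h0R : MvPolynomial.coeff (ones (e + 1)) R = 0 := coeff_ones_of_degLt hR'
  rw [coeff_ones_eq_sum (Snapper.degLt_of_totalDegree (Nat.lt_succ_of_le hP')),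
    coeff_ones_eq_sum (Snapper.degLt_of_totalDegree (Nat.lt_succ_of_le hQ'))]
  rw [coeff_ones_eq_sum (fun α hα => (hR' α hα).trans (Nat.lt_succ_self _))] at h0R
  rw [sum_powerset_fin_succ, ← Finset.sum_add_distrib] at h0R ⊢
  rw [← sub_eq_zero, ← Finset.sum_sub_distrib]
  refine Eq.trans (Finset.sum_congr rfl fun T _ => ?_) h0R
  let S := T.map (Fin.succEmb e)
  let n : Fin (e + 1) → ℕ := fun i => if i ∈ S then 1 else 0
  have h0S : (0 : Fin (e + 1)) ∉ S := by simp [S, Fin.succ_ne_zero]
  have hn0 : n 0 = 0 := if_neg h0S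
  have hS : ∀ j : Fin e, j.succ ∈ S ↔ j ∈ T := fun j => by simp [S]
  have hnj : ∀ j, n j.succ = if j ∈ T then 1 else 0 := fun j => if_congr (hS j) rfl rfl
  have hev : ∀ Φ : MvPolynomial (Fin (e + 1)) ℚ,
      MvPolynomial.eval (fun i => if i ∈ S then (1 : ℚ) else 0) Φ =
        MvPolynomial.eval (fun i => (n i : ℚ)) Φ := fun Φ =>
    congrArg (fun v => MvPolynomial.eval v Φ) (funext fun i => by simp only [n]; split_ifs <;> simp)
  have hev1 : ∀ Φ : MvPolynomial (Fin (e + 1)) ℚ,
      MvPolynomial.eval (fun i => if i ∈ insert 0 S then (1 : ℚ) else 0) Φ =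
        MvPolynomial.eval (fun i => ((Function.update n 0 (n 0 + 1) i : ℕ) : ℚ)) Φ := fun Φ =>
    congrArg (fun v => MvPolynomial.eval v Φ) (funext fun i => by
      by_cases h : i = 0
      · subst h; simp [hn0]
      · rw [Function.update_of_ne h]; simp only [Finset.mem_insert, h, false_or, n]; split_ifs <;> simp)
  have hc : (Finset.univ \ S).card = (Finset.univ \ T).card + 1 := by
    rw [Finset.card_univ_diff, Finset.card_univ_diff, Finset.card_map, Fintype.card_fin, Fintype.card_fin]
    have := card_finset_fin_le T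
    omega
  have hc1 : (Finset.univ \ insert 0 S).card = (Finset.univ \ T).card := by
    rw [Finset.card_univ_diff, Finset.card_univ_diff, Finset.card_insert_of_notMem h0S, Finset.card_map,
      Fintype.card_fin, Fintype.card_fin]
    omega
  have hevT : MvPolynomial.eval (fun j => if j ∈ T then (1 : ℚ) else 0) Q =
      Snapper.χs k L (ClSub.quotMod D) n := by
    rw [hzero n hn0, hQ]
    exact congrArg (fun v => MvPolynomial.eval v Q) (funext fun i => by rw [hnj]; split_ifs <;> simp)
  show (-1 : ℚ) ^ (Finset.univ \ S).card * _ + (-1) ^ (Finset.univ \ insert 0 S).card * _ - _ =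
    (-1 : ℚ) ^ (Finset.univ \ S).card * _ + (-1) ^ (Finset.univ \ insert 0 S).card * _
  rw [hev, hev1, hev, hev1, hevT, hc, hc1, ← hP n, ← hP _, ← hRn _, ← hRn _]
  rw [χs_effCartier k hL 0 D hLD n]
  show _ = _ * Snapper.χs k L (ClSub.quotMod D) n + _ * Snapper.χs k L (ClSub.quotMod D) _
  rw [pow_succ]
  ring

end Groth.Agent.VarInt
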