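import Groth.Agent.VarInt.PushTwist
import Groth.Agent.VarInt.Main
import Groth.Agent.VarInt.DegPull
import Groth.Agent.VarDim.Fibre
import Groth.Agent.CycLib.Push
import Groth.Agent.CycLib.Envelope

/-! Intersection numbers of pull-backs. -/

noncomputable section

set_option linter.style.haveILetI false
set_option linter.unusedSectionVars false
set_option backward.isDefEq.respectTransparency false
set_option backward.isDefEq.respectTransparency.types false

universe u

open CategoryTheory CategoryTheory.Limits AlgebraicGeometry TopologicalSpace Opposite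
open Groth.Agent.PnCoh.Chow (pullTw)

namespace Groth.Agent.VarInt

open Groth.Agent Groth.Agent.H23.PicMul

variable {X Y X' : Scheme.{u}}

theorem support_push_subset_closed (g : Y ⟶ X) (hg : IsClosedMap g) (M : Y.Modules) :
    CohB1.support ((Coh.push g).obj M) ⊆ Set.range g := fun x hx => by
  by_contra hc
  refine hx (subsingleton_of_forall_eq 0 fun m => ?_)
  obtain ⟨V, hxV, v, rfl⟩ := ((Coh.push g).obj M).presheaf.exists_germ_eq m
  let W : X.Opens := V ⊓ ⟨(Set.range g)ᶜ, hg.isClosed_range.isOpen_compl⟩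
  rw [← ((Coh.push g).obj M).presheaf.germ_res_apply (homOfLE inf_le_left : W ⟶ V) x ⟨hxV, hc⟩ v]
  refine Eq.trans ?_ (map_zero (((Coh.push g).obj M).presheaf.germ W x ⟨hxV, hc⟩).hom)
  refine congrArg _ ?_
  exact TopCat.Presheaf.section_ext (⟨M.presheaf, M.isSheaf⟩ : TopCat.Sheaf Ab Y.toTopCat) (g ⁻¹ᵁ W)
    _ _ fun y hy => absurd ⟨y, rfl⟩ hy.2

theorem cl_tensorPows (M : X.Modules) : ∀ {r : ℕ} (L : Fin r → X.Modules) (n : Fin r → ℕ),
    PicF.cl (Curv2.tensorPows M r L n) = PicF.cl M * ∏ j, PicF.cl (L j) ^ n j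
  | 0, L, n => by simp; rfl
  | r + 1, L, n => by
    show PicF.cl (CohB1.tensorMod (Curv2.tensorPows M r (fun j => L j.castSucc) (fun j => n j.castSucc))
      (CohB1.tensorPow (L (Fin.last r)) (n (Fin.last r)))) = _
    rw [cl_tensor, cl_tensorPows M, cl_tensorPow, Fin.prod_univ_castSucc, mul_assoc]

theorem isInvertible_tensorPows : ∀ {r : ℕ} {L : Fin r → X.Modules}, (∀ j, PicF.IsInvertible (L j)) →
    ∀ n : Fin r → ℕ, PicF.IsInvertible (Curv2.tensorPows (Coh.structureModule X) r L n)
  | 0, _, _, _ => InvX.isInvertible_structureModule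
  | r + 1, L, hL, n => InvX.isInvertible_tensorMod
      (isInvertible_tensorPows (L := fun j => L j.castSucc) (fun j => hL _) fun j => n j.castSucc)
      (InvX.isInvertible_tensorPow (hL (Fin.last r)) (n (Fin.last r)))

/-- Stalk length of a push-forward of an invertible module at the image of the generic point. -/
theorem length_push_generic (g : X' ⟶ X) (hc : IsClosedMap g) [IsIntegral X'] {M : X'.Modules}
    (hM : PicF.IsInvertible M) (huniq : ∀ z, g z = g (genericPoint X') → z = genericPoint X') :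
    (Module.length (X.presheaf.stalk (g (genericPoint X')))
      (((Coh.push g).obj M).presheaf.stalk (g (genericPoint X')))).toNat =
      g.residueDegree (genericPoint X') := by
  let ξ := genericPoint X'
  obtain ⟨e, he⟩ := exists_stalkPush_semilinear g hc ξ huniq M
  letI := (g.stalkMap ξ).hom.toAlgebra
  haveI : IsLocalHom (algebraMap (X.presheaf.stalk (g ξ)) (X'.presheaf.stalk ξ)) :=
    inferInstanceAs (IsLocalHom (g.stalkMap ξ).hom)
  letI : Module (X.presheaf.stalk (g ξ)) (M.presheaf.stalk ξ) := Module.compHom _ (g.stalkMap ξ).hom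
  haveI : IsScalarTower (X.presheaf.stalk (g ξ)) (X'.presheaf.stalk ξ) (M.presheaf.stalk ξ) :=
    IsScalarTower.of_algebraMap_smul fun _ _ => rfl
  obtain ⟨U, hU, f, hf⟩ := InvX.exists_frame hM ξ
  have h1 : Module.length (X'.presheaf.stalk ξ) (M.presheaf.stalk ξ) = 1 := by
    obtain ⟨est⟩ := PnCoh.Chow.nonempty_stalk_equiv_residueField hf hU
    rw [est.length_eq, Module.length_eq_of_surjective (R := IsLocalRing.ResidueField (X'.presheaf.stalk ξ))
      IsLocalRing.residue_surjective, Module.length_eq_one]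
  have h2 := IsLocalRing.length_restrictScalars (X.presheaf.stalk (g ξ)) (X'.presheaf.stalk ξ)
    (M.presheaf.stalk ξ)
  rw [h1, one_mul] at h2
  rw [({ e with map_smul' := he } :
      _ ≃ₗ[X.presheaf.stalk (g ξ)] M.presheaf.stalk ξ).length_eq, h2, Module.length_eq_rank,
    Cardinal.toNat_toENat]
  letI := (g.residueFieldMap ξ).hom.toAlgebra
  refine Algebra.finrank_eq_of_equiv_equiv (RingEquiv.refl _) (RingEquiv.refl _) (RingHom.ext fun a => ?_)
  obtain ⟨a, rfl⟩ := IsLocalRing.residue_surjective a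
  rfl

section Field

variable (k : Type u) [Field k] [X.Over (Spec (CommRingCat.of k))]
  [IsProper (X ↘ Spec (CommRingCat.of k))]

/-- A module supported on the closure of a point has its length times the number of the point. -/
theorem coeff_eq_length_mul {d : ℕ} {L : Fin d → X.Modules} (hL : ∀ i, PicF.IsInvertible (L i))
    {w : X} (hw : topologicalKrullDim ↥(closure ({w} : Set X)) = (d : WithBot ℕ∞))
    {M : X.Modules} (hM : Coh.IsCoh M) (hsupp : CohB1.support M ⊆ closure {w})
    {P : MvPolynomial (Fin d) ℚ}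
    (hP : ∀ n, Snapper.χs k L M n = MvPolynomial.eval (fun i => (n i : ℚ)) P)
    {Q : MvPolynomial (Fin d) ℚ}
    (hQ : ∀ n, Snapper.χs k L (ClSub.quotMod (ptClosure w)) n = MvPolynomial.eval (fun i => (n i : ℚ)) Q) :
    MvPolynomial.coeff (ones d) P =
      ((Module.length (X.presheaf.stalk w) (M.presheaf.stalk w)).toNat : ℚ) *
        MvPolynomial.coeff (ones d) Q := by
  classical
  haveI := CurveCohLib.isNoetherian_of_proper (k := k) (X := X)
  have hd : topologicalKrullDim ↥(CohB1.support M) ≤ (d : WithBot ℕ∞) :=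
    (H23.TopDim.dim_le_dim_of_subset hsupp).trans hw.le
  have hQex : ∀ ξ : X, ∃ Q' : MvPolynomial (Fin d) ℚ,
      topologicalKrullDim (closure ({ξ} : Set X)) = (d : WithBot ℕ∞) →
      ∀ n, Snapper.χs k L (ClSub.quotMod (ptClosure ξ)) n = MvPolynomial.eval (fun i => (n i : ℚ)) Q' := fun ξ => by
    by_cases h : topologicalKrullDim (closure ({ξ} : Set X)) = (d : WithBot ℕ∞)
    · obtain ⟨Q', -, hQ'⟩ := Snapper.exists_mpoly k hL (M := ClSub.quotMod (ptClosure ξ))
        (ParShLib.isCoh_quotMod _) ((H23.TopDim.dim_le_dim_of_subset (support_quot_ptClosure_subset ξ)).trans h.le)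
      exact ⟨Q', fun _ => hQ'⟩
    · exact ⟨0, fun h' => absurd h' h⟩
  choose Q' hQ' using hQex
  rw [coeff_eq_finsum k hL hM hd hP hQ', finsum_eq_single _ w fun ξ hξ => ?_, if_pos hw,
    eq_of_eval_natCast fun n => (hQ' w hw n).symm.trans (hQ n)]
  split_ifs with h
  · by_cases hs : ξ ∈ CohB1.support M
    · exact absurd (eq_of_mem_closure hw.le (hsupp hs) h) hξ
    · haveI : Subsingleton (M.presheaf.stalk ξ) := not_not.1 hs
      simp [Module.length_eq_zero]
  · rfl

theorem coeff_eq_zero_of_dim_lt {d : ℕ} {L : Fin d → X.Modules} (hL : ∀ i, PicF.IsInvertible (L i))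
    {M : X.Modules} (hM : Coh.IsCoh M)
    (hd : topologicalKrullDim ↥(CohB1.support M) < (d : WithBot ℕ∞))
    {P : MvPolynomial (Fin d) ℚ}
    (hP : ∀ n, Snapper.χs k L M n = MvPolynomial.eval (fun i => (n i : ℚ)) P) :
    MvPolynomial.coeff (ones d) P = 0 := by
  haveI := CurveCohLib.isNoetherian_of_proper (k := k) (X := X)
  obtain ⟨R, hR, hRn⟩ := Snapper.isMPolyLt_of_dim_lt k hL d
    ⟨_, QCoh.isClosed_support_of_isFT hM.1 hM.2⟩ hd M hM subset_rfl
  rw [eq_of_eval_natCast fun n => ((hP n).symm.trans (hRn n) : _ = MvPolynomial.eval _ R)]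
  exact coeff_ones_of_degLt hR

variable [Y.Over (Spec (CommRingCat.of k))] [IsProper (Y ↘ Spec (CommRingCat.of k))]

/-- Intersection numbers of pull-backs. -/
theorem coeff_pullback (f : Y ⟶ X)
    (hf : f ≫ (X ↘ Spec (CommRingCat.of k)) = Y ↘ Spec (CommRingCat.of k))
    (Z : Y.IdealSheafData) [IsIntegral Z.subscheme] (d : ℕ)
    (hZ : topologicalKrullDim (Z.support : Set Y) = d)
    (L : Fin d → X.Modules) (hL : ∀ i, PicF.IsInvertible (L i))
    (PY PX : MvPolynomial (Fin d) ℚ)
    (hPY : ∀ n, Snapper.χs k (fun i => (Scheme.Modules.pullback f).obj (L i)) (ClSub.quotMod Z) n =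
      MvPolynomial.eval (fun i => (n i : ℚ)) PY)
    (hPX : ∀ n, Snapper.χs k L (ClSub.quotMod (Z.subschemeι ≫ f).ker) n =
      MvPolynomial.eval (fun i => (n i : ℚ)) PX) :
    MvPolynomial.coeff (ones d) PY =
      ((Z.subschemeι ≫ f).residueDegree (genericPoint Z.subscheme) : ℚ) * MvPolynomial.coeff (ones d) PX := by
  classical
  haveI := CurveCohLib.isNoetherian_of_proper (k := k) (X := X)
  haveI := CurveCohLib.isNoetherian_of_proper (k := k) (X := Y)
  haveI : IsProper f := isProper_of_over k f hf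
  let qY := Y ↘ Spec (CommRingCat.of k)
  let qX := X ↘ Spec (CommRingCat.of k)
  have hLY : ∀ i, PicF.IsInvertible ((Scheme.Modules.pullback f).obj (L i)) :=
    fun i => PicClLib.isInvertible_pullback f (hL i)
  let Z' := Z.subscheme
  let ι := Z.subschemeι
  let η := genericPoint Z'
  let ζ := ι η
  let w := f ζ
  -- the support of `Z`
  have hrange : Set.range ι = closure {ζ} := by
    have hcl := isGenericPoint_def.1 (genericPoint_spec Z')
    rw [← Set.image_univ, ← hcl, ← ι.isClosedEmbedding.closure_image_eq, Set.image_singleton]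
  have hdimζ : topologicalKrullDim ↥(closure ({ζ} : Set Y)) = (d : WithBot ℕ∞) := by
    rw [← hrange, Z.range_subschemeι]; exact hZ
  -- the image is the closure of `w` with its reduced structure
  have hker : (ι ≫ f).ker = ptClosure w := by
    have hrad : (ι ≫ f).ker.radical = (ι ≫ f).ker := Scheme.IdealSheafData.ext (funext fun U => by
      show ((ι ≫ f).ker.ideal U).radical = _
      rw [Scheme.Hom.ker_apply]
      refine (Ideal.IsRadical.radical ?_)
      rintro a ⟨m, hm⟩
      rw [RingHom.mem_ker, map_pow] at hm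
      exact RingHom.mem_ker.2 (IsReduced.eq_zero _ ⟨m, hm⟩))
    rw [← hrad, ← Scheme.IdealSheafData.vanishingIdeal_support]
    refine congrArg _ (Closeds.ext ?_)
    show ((ι ≫ f).ker.support : Set X) = closure {w}
    rw [Scheme.Hom.support_ker]
    show closure (Set.range (ι ≫ f)) = _
    have : Set.range (ι ≫ f) = f '' closure {ζ} := by
      rw [← hrange, ← Set.range_comp]; rfl
    rw [this, ← f.isClosedMap.closure_image_eq_of_continuous f.continuous, closure_closure, Set.image_singleton]
  -- a projective model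
  letI : Z'.Over (Spec (CommRingCat.of k)) := ⟨ι ≫ qY⟩
  haveI : IsProper (ι ≫ qY) := inferInstance
  obtain ⟨N₀, X', π, p, hint, hp, hpf, hπ, U, hU, hiso⟩ := PnCoh.Chow.chow_integral (ι ≫ qY)
  let g₁ : X' ⟶ Y := π ≫ ι
  let g : X' ⟶ X := g₁ ≫ f
  letI : X'.Over (Spec (CommRingCat.of k)) := ⟨g₁ ≫ qY⟩
  have hg₁ : g₁ ≫ qY = X' ↘ Spec (CommRingCat.of k) := rfl
  have hg : g ≫ qX = X' ↘ Spec (CommRingCat.of k) := by
    show (g₁ ≫ f) ≫ qX = g₁ ≫ qY
    rw [Category.assoc, hf]
  haveI : IsProper g₁ := inferInstance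
  haveI : IsProper g := inferInstance
  have hp₁ : p ≫ CohB1.ProjSpace.toSpec N₀ k = g₁ ≫ qY := hpf.trans (Category.assoc _ _ _).symm
  obtain ⟨d₁, hd₁⟩ := exists_good_twist g₁ hg₁ p hp₁
  obtain ⟨d₂, hd₂⟩ := exists_good_twist g hg p (hp₁.trans (hg₁.trans hg.symm))
  obtain ⟨hGY, hEY⟩ := hd₁ (d₁ + d₂) (Nat.le_add_right _ _)
  obtain ⟨hGX, hEX⟩ := hd₂ (d₁ + d₂) (Nat.le_add_left _ _)
  let M := pullTw p ((d₁ + d₂ : ℕ) : ℤ)
  let GY := (Coh.push g₁).obj M
  let GX := (Coh.push g).obj M
  have hM : PicF.IsInvertible M := InvX.isInvertible_of_frames fun x => by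
    obtain ⟨⟨l⟩, hl⟩ := PnCoh.Chow.cov_coord k (p x)
    exact ⟨_, hl, _, PnCoh.Chow.isFrame_pFrame p (ProjPt.X_mem l) _⟩
  -- the generic point of the model
  let ξ := genericPoint X'
  have hηU : η ∈ U := ((genericPoint_spec Z').mem_open_set_iff U.2).2
    (by obtain ⟨u⟩ := hU; exact ⟨u.1, trivial, u.2⟩)
  have hinj : ∀ a b : X', π a ∈ U → π b = π a → b = a := fun a b ha hab => by
    have hb : π b ∈ U := hab ▸ ha
    have h0 : (π ∣_ U) ⟨b, hb⟩ = (π ∣_ U) ⟨a, ha⟩ := Subtype.ext (by
      rw [morphismRestrict_base_coe, morphismRestrict_base_coe]; exact hab)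
    exact congrArg Subtype.val ((TopCat.homeoOfIso (asIso (π ∣_ U).base)).injective h0)
  obtain ⟨x₀, hx₀⟩ : ∃ x₀ : (π ⁻¹ᵁ U).toScheme, (π ∣_ U) x₀ = ⟨η, hηU⟩ :=
    (TopCat.homeoOfIso (asIso (π ∣_ U).base)).surjective _
  have hx₀' : π x₀.1 = η := by
    have h := congrArg Subtype.val hx₀
    rwa [morphismRestrict_base_coe] at h
  have hπξ : π ξ = η := by
    have h1 : π ξ ⤳ η := hx₀' ▸ (genericPoint_specializes x₀.1).map π.continuous
    exact (h1.antisymm (genericPoint_specializes (π ξ))).eq
  have hξ₁ : g₁ ξ = ζ := by show ι (π ξ) = ι η; rw [hπξ]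
  have hξ : g ξ = w := by show f (g₁ ξ) = f ζ; rw [hξ₁]
  have hu₁ : ∀ z, g₁ z = g₁ ξ → z = ξ := fun z hz =>
    hinj ξ z (show π ξ ∈ U by rw [hπξ]; exact hηU) (ι.isClosedEmbedding.injective hz)
  have hres₁ : g₁.residueDegree ξ = 1 := by
    rw [CycLib.residueDegree_comp, CycLib.residueDegree_preimmersion ι, one_mul]
    haveI : IsIso (π.stalkMap ξ) := by
      exact (MorphismProperty.arrow_mk_iso_iff (.isomorphisms _)
        (morphismRestrictStalkMap π U ⟨ξ, show π ξ ∈ U by rw [hπξ]; exact hηU⟩)).1 ((MorphismProperty.isomorphisms.iff _).2 inferInstance)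
    refine CycLib.residueDegree_of_surjective π fun a => ?_
    obtain ⟨a, rfl⟩ := X'.residue_surjective ξ a
    obtain ⟨b, rfl⟩ := (ConcreteCategory.bijective_of_isIso (π.stalkMap ξ)).2 a
    exact ⟨Z'.residue (π ξ) b, congr($(Scheme.residue_residueFieldMap π ξ) b)⟩
  have hres : g.residueDegree ξ = (ι ≫ f).residueDegree η := by
    rw [CycLib.residueDegree_comp g₁ f, hres₁, mul_one, hξ₁, CycLib.residueDegree_comp ι f,
      CycLib.residueDegree_preimmersion ι, mul_one]
  -- supports
  have hcl : ∀ (T : Scheme.{u}) (h : X' ⟶ T), Set.range h ⊆ closure {h ξ} := fun T h => by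
    rintro _ ⟨z, rfl⟩
    exact specializes_iff_mem_closure.1 ((genericPoint_specializes z).map h.continuous)
  have hsY : CohB1.support GY ⊆ closure {ζ} :=
    ((support_push_subset_closed g₁ g₁.isClosedMap M).trans (hcl _ g₁)).trans (by rw [hξ₁])
  have hsX : CohB1.support GX ⊆ closure {w} :=
    ((support_push_subset_closed g g.isClosedMap M).trans (hcl _ g)).trans (by rw [hξ])
  -- one polynomial for both
  obtain ⟨P, -, hPn⟩ := Snapper.exists_mpoly k hLY hGY
    ((H23.TopDim.dim_le_dim_of_subset hsY).trans hdimζ.le)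
  have hPX' : ∀ n, Snapper.χs k L GX n = MvPolynomial.eval (fun i => (n i : ℚ)) P := fun n => by
    refine Eq.trans (congrArg (Int.cast : ℤ → ℚ) ?_) (hPn n)
    let N := Curv2.tensorPows (Coh.structureModule X) d L n
    have hN : PicF.IsInvertible N := isInvertible_tensorPows hL n
    have hNY := PicClLib.isInvertible_pullback f hN
    obtain ⟨a⟩ : Nonempty (Curv2.tensorPows GX d L n ≅ CohB1.tensorMod GX N) := cl_eq_iff.1 (by
      rw [cl_tensor, cl_tensorPows, cl_tensorPows, show PicF.cl (Coh.structureModule X) = 1 from rfl, one_mul])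
    obtain ⟨b⟩ : Nonempty (Curv2.tensorPows GY d (fun i => (Scheme.Modules.pullback f).obj (L i)) n ≅
        CohB1.tensorMod GY ((Scheme.Modules.pullback f).obj N)) := cl_eq_iff.1 (by
      rw [cl_tensor, cl_tensorPows]
      show _ = _ * pullHom f (PicF.cl N)
      rw [cl_tensorPows, show PicF.cl (Coh.structureModule X) = 1 from rfl, one_mul, map_prod]
      refine congrArg _ (Finset.prod_congr rfl fun j _ => ?_)
      rw [map_pow]
      rfl)
    rw [CurveCohLib.euler_congr a, CurveCohLib.euler_congr b, hEY _ hNY, hEX _ hN]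
    exact CurveCohLib.euler_congr (PicGrp.tensorModIso (Iso.refl _)
      (((Scheme.Modules.pullbackComp g₁ f).app N).symm))
  -- the side of `Y`
  have hlenY : (Module.length (Y.presheaf.stalk ζ) (GY.presheaf.stalk ζ)).toNat = 1 := by
    rw [← hξ₁, length_push_generic g₁ g₁.isClosedMap hM hu₁, hres₁]
  have hlenZ : (Module.length (Y.presheaf.stalk ζ) ((ClSub.quotMod Z).presheaf.stalk ζ)).toNat = 1 :=
    (length_push_generic ι ι.isClosedEmbedding.isClosedMap InvX.isInvertible_structureModule
      fun z hz => ι.isClosedEmbedding.injective hz).trans (CycLib.residueDegree_preimmersion ι η)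
  obtain ⟨QY, -, hQY⟩ := Snapper.exists_mpoly k hLY (M := ClSub.quotMod (ptClosure ζ))
    (ParShLib.isCoh_quotMod _) ((H23.TopDim.dim_le_dim_of_subset (support_quot_ptClosure_subset ζ)).trans hdimζ.le)
  have hZsupp : CohB1.support (ClSub.quotMod Z) ⊆ closure {ζ} :=
    (support_push_subset_closed ι ι.isClosedEmbedding.isClosedMap _).trans hrange.le
  have e1 := coeff_eq_length_mul k hLY hdimζ hGY hsY hPn hQY
  have e2 := coeff_eq_length_mul k hLY hdimζ (ParShLib.isCoh_quotMod Z) hZsupp hPY hQY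
  rw [hlenY] at e1
  rw [hlenZ] at e2
  rw [e2, ← e1]
  -- the side of `X`
  have hdY : VarDim.deg qY ζ = d := by
    rw [VarDim.topologicalKrullDim_closure_singleton qY ζ] at hdimζ
    exact_mod_cast WithBot.coe_inj.1 hdimζ
  have hadd : VarDim.deg qY ζ = VarDim.deg qX w + VarDim.fdeg f ζ := VarDim.deg_eq_add f qX hf ζ
  by_cases hfin : VarDim.fdeg f ζ = 0
  · have hdimw : topologicalKrullDim ↥(closure ({w} : Set X)) = (d : WithBot ℕ∞) := by
      rw [VarDim.topologicalKrullDim_closure_singleton qX w, ← hdY, hadd, hfin, add_zero]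
      rfl
    have hu : ∀ z, g z = g ξ → z = ξ := fun z hz => hu₁ z (by
      rw [hξ₁]
      have hzc : g₁ z ∈ closure ({ζ} : Set Y) := hξ₁ ▸ hcl _ g₁ ⟨z, rfl⟩
      refine (VarDim.eq_of_specializes_of_deg_le qY (specializes_iff_mem_closure.2 hzc) ?_).symm
      have := VarDim.deg_map_le f qX hf (g₁ z)
      have hz' : f (g₁ z) = w := hz.trans hξ
      rw [hz'] at this
      change VarDim.deg qX w ≤ VarDim.deg qY (g₁ z) at this
      omega)
    have hlenX : (Module.length (X.presheaf.stalk w) (GX.presheaf.stalk w)).toNat =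
        (ι ≫ f).residueDegree η := by
      rw [← hξ, length_push_generic g g.isClosedMap hM hu, hres]
    rw [coeff_eq_length_mul k hL hdimw hGX hsX hPX' (fun n => by rw [← hker]; exact hPX n), hlenX]
  · have hdimw : topologicalKrullDim ↥(CohB1.support GX) < (d : WithBot ℕ∞) := by
      refine lt_of_le_of_lt (H23.TopDim.dim_le_dim_of_subset hsX) ?_
      rw [VarDim.topologicalKrullDim_closure_singleton qX w]
      exact WithBot.coe_lt_coe.2 (Nat.cast_lt.2 (show VarDim.deg qX w < d by omega))
    rw [coeff_eq_zero_of_dim_lt k hL hGX hdimw hPX']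
    have h0 : (ι ≫ f).residueDegree η = 0 := by
      rw [CycLib.residueDegree_comp ι f, CycLib.residueDegree_preimmersion ι, mul_one]
      refine by_contra fun hne => hfin ?_
      letI := (f.residueFieldMap ζ).hom.toAlgebra
      haveI : Module.Finite (X.residueField (f ζ)) (Y.residueField ζ) :=
        Module.finite_of_finrank_pos (Nat.pos_of_ne_zero hne)
      show Cardinal.toNat (Algebra.trdeg (X.residueField (f ζ)) (Y.residueField ζ)) = 0
      rw [trdeg_eq_zero, map_zero]
    rw [h0, Nat.cast_zero, zero_mul]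

/-- Either the image point has the same dimension or the residue degree is zero. -/
theorem residueDegree_eq_zero_or_dim (f : Y ⟶ X)
    (hf : f ≫ (X ↘ Spec (CommRingCat.of k)) = Y ↘ Spec (CommRingCat.of k)) (ζ : Y) :
    f.residueDegree ζ = 0 ∨
      topologicalKrullDim ↥(closure ({f ζ} : Set X)) = topologicalKrullDim ↥(closure ({ζ} : Set Y)) := by
  haveI : IsProper f := isProper_of_over k f hf
  by_cases h : VarDim.fdeg f ζ = 0
  · right
    rw [VarDim.topologicalKrullDim_closure_singleton (X ↘ Spec (CommRingCat.of k)),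
      VarDim.topologicalKrullDim_closure_singleton (Y ↘ Spec (CommRingCat.of k)),
      VarDim.deg_eq_add f (X ↘ Spec (CommRingCat.of k)) hf ζ, h, add_zero]
  · refine Or.inl (by_contra fun hne => h ?_)
    letI := (f.residueFieldMap ζ).hom.toAlgebra
    haveI : Module.Finite (X.residueField (f ζ)) (Y.residueField ζ) :=
      Module.finite_of_finrank_pos (Nat.pos_of_ne_zero hne)
    show Cardinal.toNat (Algebra.trdeg (X.residueField (f ζ)) (Y.residueField ζ)) = 0
    rw [trdeg_eq_zero, map_zero]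

end Field

end Groth.Agent.VarInt
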